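import Cfsg.Agent.OD.Pre
import Cfsg.Agent.H6.TCTop
import Cfsg.Agent.H6.ONT1.D0
import Cfsg.Agent.H6.ONT1.D1
import Cfsg.Agent.H6.ONT1.D2
set_option autoImplicit false
set_option maxRecDepth 100000
set_option Elab.async false
set_option linter.all false
namespace CfH6.ONT1
open CfH6
noncomputable def u32 : Tr := (Tr.n (Tr.n (Tr.n (Tr.n (Tr.n t0 t1) (Tr.n t2 t3)) (Tr.n (Tr.n t4 t5) (Tr.n t6 t7))) (Tr.n (Tr.n (Tr.n t8 t9) (Tr.n t10 t11)) (Tr.n (Tr.n t12 t13) (Tr.n t14 t15)))) (Tr.n (Tr.n (Tr.n (Tr.n t16 t17) (Tr.n t18 t19)) (Tr.n (Tr.n t20 t21) (Tr.n t22 t23))) (Tr.n (Tr.n (Tr.n t24 t25) (Tr.n t26 t27)) (Tr.n (Tr.n t28 t29) (Tr.n t30 t31)))))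
noncomputable def u65 : Tr := (Tr.n (Tr.n (Tr.n (Tr.n (Tr.n t33 t34) (Tr.n t35 t36)) (Tr.n (Tr.n t37 t38) (Tr.n t39 t40))) (Tr.n (Tr.n (Tr.n t41 t42) (Tr.n t43 t44)) (Tr.n (Tr.n t45 t46) (Tr.n t47 t48)))) (Tr.n (Tr.n (Tr.n (Tr.n t49 t50) (Tr.n t51 t52)) (Tr.n (Tr.n t53 t54) (Tr.n t55 t56))) (Tr.n (Tr.n (Tr.n t57 t58) (Tr.n t59 t60)) (Tr.n (Tr.n t61 t62) (Tr.n t63 t64)))))
noncomputable def tab0 : Tr := (Tr.n u32 u65)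
noncomputable def u98 : Tr := (Tr.n (Tr.n (Tr.n (Tr.n (Tr.n t66 t67) (Tr.n t68 t69)) (Tr.n (Tr.n t70 t71) (Tr.n t72 t73))) (Tr.n (Tr.n (Tr.n t74 t75) (Tr.n t76 t77)) (Tr.n (Tr.n t78 t79) (Tr.n t80 t81)))) (Tr.n (Tr.n (Tr.n (Tr.n t82 t83) (Tr.n t84 t85)) (Tr.n (Tr.n t86 t87) (Tr.n t88 t89))) (Tr.n (Tr.n (Tr.n t90 t91) (Tr.n t92 t93)) (Tr.n (Tr.n t94 t95) (Tr.n t96 t97)))))
noncomputable def u131 : Tr := (Tr.n (Tr.n (Tr.n (Tr.n (Tr.n t99 t100) (Tr.n t101 t102)) (Tr.n (Tr.n t103 t104) (Tr.n t105 t106))) (Tr.n (Tr.n (Tr.n t107 t108) (Tr.n t109 t110)) (Tr.n (Tr.n t111 t112) (Tr.n t113 t114)))) (Tr.n (Tr.n (Tr.n (Tr.n t115 t116) (Tr.n t117 t118)) (Tr.n (Tr.n t119 t120) (Tr.n t121 t122))) (Tr.n (Tr.n (Tr.n t123 t124) (Tr.n t125 t126)) (Tr.n (Tr.n t127 t128) (Tr.n t129 t130)))))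
noncomputable def tab1 : Tr := (Tr.n u98 u131)
noncomputable def u164 : Tr := (Tr.n (Tr.n (Tr.n (Tr.n (Tr.n t132 t133) (Tr.n t134 t135)) (Tr.n (Tr.n t136 t137) (Tr.n t138 t139))) (Tr.n (Tr.n (Tr.n t140 t141) (Tr.n t142 t143)) (Tr.n (Tr.n t144 t145) (Tr.n t146 t147)))) (Tr.n (Tr.n (Tr.n (Tr.n t148 t149) (Tr.n t150 t151)) (Tr.n (Tr.n t152 t153) (Tr.n t154 t155))) (Tr.n (Tr.n (Tr.n t156 t157) (Tr.n t158 t159)) (Tr.n (Tr.n t160 t161) (Tr.n t162 t163)))))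
noncomputable def u197 : Tr := (Tr.n (Tr.n (Tr.n (Tr.n (Tr.n t165 t166) (Tr.n t167 t168)) (Tr.n (Tr.n t169 t170) (Tr.n t171 t172))) (Tr.n (Tr.n (Tr.n t173 t174) (Tr.n t175 t176)) (Tr.n (Tr.n t177 t178) (Tr.n t179 t180)))) (Tr.n (Tr.n (Tr.n (Tr.n t181 t182) (Tr.n t183 t184)) (Tr.n (Tr.n t185 t186) (Tr.n t187 t188))) (Tr.n (Tr.n (Tr.n t189 t190) (Tr.n t191 t192)) (Tr.n (Tr.n t193 t194) (Tr.n t195 t196)))))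
noncomputable def tab2 : Tr := (Tr.n u164 u197)
noncomputable def u230 : Tr := (Tr.n (Tr.n (Tr.n (Tr.n (Tr.n t198 t199) (Tr.n t200 t201)) (Tr.n (Tr.n t202 t203) (Tr.n t204 t205))) (Tr.n (Tr.n (Tr.n t206 t207) (Tr.n t208 t209)) (Tr.n (Tr.n t210 t211) (Tr.n t212 t213)))) (Tr.n (Tr.n (Tr.n (Tr.n t214 t215) (Tr.n t216 t217)) (Tr.n (Tr.n t218 t219) (Tr.n t220 t221))) (Tr.n (Tr.n (Tr.n t222 t223) (Tr.n t224 t225)) (Tr.n (Tr.n t226 t227) (Tr.n t228 t229)))))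
noncomputable def u263 : Tr := (Tr.n (Tr.n (Tr.n (Tr.n (Tr.n t231 t232) (Tr.n t233 t234)) (Tr.n (Tr.n t235 t236) (Tr.n t237 t238))) (Tr.n (Tr.n (Tr.n t239 t240) (Tr.n t241 t242)) (Tr.n (Tr.n t243 t244) (Tr.n t245 t246)))) (Tr.n (Tr.n (Tr.n (Tr.n t247 t248) (Tr.n t249 t250)) (Tr.n (Tr.n t251 t252) (Tr.n t253 t254))) (Tr.n (Tr.n (Tr.n t255 t256) (Tr.n t257 t258)) (Tr.n (Tr.n t259 t260) (Tr.n t261 t262)))))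
noncomputable def tab3 : Tr := (Tr.n u230 u263)
noncomputable def u296 : Tr := (Tr.n (Tr.n (Tr.n (Tr.n (Tr.n t264 t265) (Tr.n t266 t267)) (Tr.n (Tr.n t268 t269) (Tr.n t270 t271))) (Tr.n (Tr.n (Tr.n t272 t273) (Tr.n t274 t275)) (Tr.n (Tr.n t276 t277) (Tr.n t278 t279)))) (Tr.n (Tr.n (Tr.n (Tr.n t280 t281) (Tr.n t282 t283)) (Tr.n (Tr.n t284 t285) (Tr.n t286 t287))) (Tr.n (Tr.n (Tr.n t288 t289) (Tr.n t290 t291)) (Tr.n (Tr.n t292 t293) (Tr.n t294 t295)))))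
noncomputable def u329 : Tr := (Tr.n (Tr.n (Tr.n (Tr.n (Tr.n t297 t298) (Tr.n t299 t300)) (Tr.n (Tr.n t301 t302) (Tr.n t303 t304))) (Tr.n (Tr.n (Tr.n t305 t306) (Tr.n t307 t308)) (Tr.n (Tr.n t309 t310) (Tr.n t311 t312)))) (Tr.n (Tr.n (Tr.n (Tr.n t313 t314) (Tr.n t315 t316)) (Tr.n (Tr.n t317 t318) (Tr.n t319 t320))) (Tr.n (Tr.n (Tr.n t321 t322) (Tr.n t323 t324)) (Tr.n (Tr.n t325 t326) (Tr.n t327 t328)))))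
noncomputable def tab4 : Tr := (Tr.n u296 u329)
noncomputable def u362 : Tr := (Tr.n (Tr.n (Tr.n (Tr.n (Tr.n t330 t331) (Tr.n t332 t333)) (Tr.n (Tr.n t334 t335) (Tr.n t336 t337))) (Tr.n (Tr.n (Tr.n t338 t339) (Tr.n t340 t341)) (Tr.n (Tr.n t342 t343) (Tr.n t344 t345)))) (Tr.n (Tr.n (Tr.n (Tr.n t346 t347) (Tr.n t348 t349)) (Tr.n (Tr.n t350 t351) (Tr.n t352 t353))) (Tr.n (Tr.n (Tr.n t354 t355) (Tr.n t356 t357)) (Tr.n (Tr.n t358 t359) (Tr.n t360 t361)))))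
noncomputable def u395 : Tr := (Tr.n (Tr.n (Tr.n (Tr.n (Tr.n t363 t364) (Tr.n t365 t366)) (Tr.n (Tr.n t367 t368) (Tr.n t369 t370))) (Tr.n (Tr.n (Tr.n t371 t372) (Tr.n t373 t374)) (Tr.n (Tr.n t375 t376) (Tr.n t377 t378)))) (Tr.n (Tr.n (Tr.n (Tr.n t379 t380) (Tr.n t381 t382)) (Tr.n (Tr.n t383 t384) (Tr.n t385 t386))) (Tr.n (Tr.n (Tr.n t387 t388) (Tr.n t389 t390)) (Tr.n (Tr.n t391 t392) (Tr.n t393 t394)))))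
noncomputable def tab5 : Tr := (Tr.n u362 u395)
noncomputable def u428 : Tr := (Tr.n (Tr.n (Tr.n (Tr.n (Tr.n t396 t397) (Tr.n t398 t399)) (Tr.n (Tr.n t400 t401) (Tr.n t402 t403))) (Tr.n (Tr.n (Tr.n t404 t405) (Tr.n t406 t407)) (Tr.n (Tr.n t408 t409) (Tr.n t410 t411)))) (Tr.n (Tr.n (Tr.n (Tr.n t412 t413) (Tr.n t414 t415)) (Tr.n (Tr.n t416 t417) (Tr.n t418 t419))) (Tr.n (Tr.n (Tr.n t420 t421) (Tr.n t422 t423)) (Tr.n (Tr.n t424 t425) (Tr.n t426 t427)))))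
noncomputable def u461 : Tr := (Tr.n (Tr.n (Tr.n (Tr.n (Tr.n t429 t430) (Tr.n t431 t432)) (Tr.n (Tr.n t433 t434) (Tr.n t435 t436))) (Tr.n (Tr.n (Tr.n t437 t438) (Tr.n t439 t440)) (Tr.n (Tr.n t441 t442) (Tr.n t443 t444)))) (Tr.n (Tr.n (Tr.n (Tr.n t445 t446) (Tr.n t447 t448)) (Tr.n (Tr.n t449 t450) (Tr.n t451 t452))) (Tr.n (Tr.n (Tr.n t453 t454) (Tr.n t455 t456)) (Tr.n (Tr.n t457 t458) (Tr.n t459 t460)))))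
noncomputable def tab6 : Tr := (Tr.n u428 u461)
noncomputable def u494 : Tr := (Tr.n (Tr.n (Tr.n (Tr.n (Tr.n t462 t463) (Tr.n t464 t465)) (Tr.n (Tr.n t466 t467) (Tr.n t468 t469))) (Tr.n (Tr.n (Tr.n t470 t471) (Tr.n t472 t473)) (Tr.n (Tr.n t474 t475) (Tr.n t476 t477)))) (Tr.n (Tr.n (Tr.n (Tr.n t478 t479) (Tr.n t480 t481)) (Tr.n (Tr.n t482 t483) (Tr.n t484 t485))) (Tr.n (Tr.n (Tr.n t486 t487) (Tr.n t488 t489)) (Tr.n (Tr.n t490 t491) (Tr.n t492 t493)))))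
noncomputable def u527 : Tr := (Tr.n (Tr.n (Tr.n (Tr.n (Tr.n t495 t496) (Tr.n t497 t498)) (Tr.n (Tr.n t499 t500) (Tr.n t501 t502))) (Tr.n (Tr.n (Tr.n t503 t504) (Tr.n t505 t506)) (Tr.n (Tr.n t507 t508) (Tr.n t509 t510)))) (Tr.n (Tr.n (Tr.n (Tr.n t511 t512) (Tr.n t513 t514)) (Tr.n (Tr.n t515 t516) (Tr.n t517 t518))) (Tr.n (Tr.n (Tr.n t519 t520) (Tr.n t521 t522)) (Tr.n (Tr.n t523 t524) (Tr.n t525 t526)))))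
noncomputable def tab7 : Tr := (Tr.n u494 u527)
noncomputable def u560 : Tr := (Tr.n (Tr.n (Tr.n (Tr.n (Tr.n t528 t529) (Tr.n t530 t531)) (Tr.n (Tr.n t532 t533) (Tr.n t534 t535))) (Tr.n (Tr.n (Tr.n t536 t537) (Tr.n t538 t539)) (Tr.n (Tr.n t540 t541) (Tr.n t542 t543)))) (Tr.n (Tr.n (Tr.n (Tr.n t544 t545) (Tr.n t546 t547)) (Tr.n (Tr.n t548 t549) (Tr.n t550 t551))) (Tr.n (Tr.n (Tr.n t552 t553) (Tr.n t554 t555)) (Tr.n (Tr.n t556 t557) (Tr.n t558 t559)))))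
noncomputable def u593 : Tr := (Tr.n (Tr.n (Tr.n (Tr.n (Tr.n t561 t562) (Tr.n t563 t564)) (Tr.n (Tr.n t565 t566) (Tr.n t567 t568))) (Tr.n (Tr.n (Tr.n t569 t570) (Tr.n t571 t572)) (Tr.n (Tr.n t573 t574) (Tr.n t575 t576)))) (Tr.n (Tr.n (Tr.n (Tr.n t577 t578) (Tr.n t579 t580)) (Tr.n (Tr.n t581 t582) (Tr.n t583 t584))) (Tr.n (Tr.n (Tr.n t585 t586) (Tr.n t587 t588)) (Tr.n (Tr.n t589 t590) (Tr.n t591 t592)))))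
noncomputable def tab8 : Tr := (Tr.n u560 u593)
noncomputable def u626 : Tr := (Tr.n (Tr.n (Tr.n (Tr.n (Tr.n t594 t595) (Tr.n t596 t597)) (Tr.n (Tr.n t598 t599) (Tr.n t600 t601))) (Tr.n (Tr.n (Tr.n t602 t603) (Tr.n t604 t605)) (Tr.n (Tr.n t606 t607) (Tr.n t608 t609)))) (Tr.n (Tr.n (Tr.n (Tr.n t610 t611) (Tr.n t612 t613)) (Tr.n (Tr.n t614 t615) (Tr.n t616 t617))) (Tr.n (Tr.n (Tr.n t618 t619) (Tr.n t620 t621)) (Tr.n (Tr.n t622 t623) (Tr.n t624 t625)))))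
noncomputable def u659 : Tr := (Tr.n (Tr.n (Tr.n (Tr.n (Tr.n t627 t628) (Tr.n t629 t630)) (Tr.n (Tr.n t631 t632) (Tr.n t633 t634))) (Tr.n (Tr.n (Tr.n t635 t636) (Tr.n t637 t638)) (Tr.n (Tr.n t639 t640) (Tr.n t641 t642)))) (Tr.n (Tr.n (Tr.n (Tr.n t643 t644) (Tr.n t645 t646)) (Tr.n (Tr.n t647 t648) (Tr.n t649 t650))) (Tr.n (Tr.n (Tr.n t651 t652) (Tr.n t653 t654)) (Tr.n (Tr.n t655 t656) (Tr.n t657 t658)))))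
noncomputable def tab9 : Tr := (Tr.n u626 u659)
noncomputable def u692 : Tr := (Tr.n (Tr.n (Tr.n (Tr.n (Tr.n t660 t661) (Tr.n t662 t663)) (Tr.n (Tr.n t664 t665) (Tr.n t666 t667))) (Tr.n (Tr.n (Tr.n t668 t669) (Tr.n t670 t671)) (Tr.n (Tr.n t672 t673) (Tr.n t674 t675)))) (Tr.n (Tr.n (Tr.n (Tr.n t676 t677) (Tr.n t678 t679)) (Tr.n (Tr.n t680 t681) (Tr.n t682 t683))) (Tr.n (Tr.n (Tr.n t684 t685) (Tr.n t686 t687)) (Tr.n (Tr.n t688 t689) (Tr.n t690 t691)))))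
noncomputable def u725 : Tr := (Tr.n (Tr.n (Tr.n (Tr.n (Tr.n t693 t694) (Tr.n t695 t696)) (Tr.n (Tr.n t697 t698) (Tr.n t699 t700))) (Tr.n (Tr.n (Tr.n t701 t702) (Tr.n t703 t704)) (Tr.n (Tr.n t705 t706) (Tr.n t707 t708)))) (Tr.n (Tr.n (Tr.n (Tr.n t709 t710) (Tr.n t711 t712)) (Tr.n (Tr.n t713 t714) (Tr.n t715 t716))) (Tr.n (Tr.n (Tr.n t717 t718) (Tr.n t719 t720)) (Tr.n (Tr.n t721 t722) (Tr.n t723 t724)))))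
noncomputable def tab10 : Tr := (Tr.n u692 u725)
noncomputable def u758 : Tr := (Tr.n (Tr.n (Tr.n (Tr.n (Tr.n t726 t727) (Tr.n t728 t729)) (Tr.n (Tr.n t730 t731) (Tr.n t732 t733))) (Tr.n (Tr.n (Tr.n t734 t735) (Tr.n t736 t737)) (Tr.n (Tr.n t738 t739) (Tr.n t740 t741)))) (Tr.n (Tr.n (Tr.n (Tr.n t742 t743) (Tr.n t744 t745)) (Tr.n (Tr.n t746 t747) (Tr.n t748 t749))) (Tr.n (Tr.n (Tr.n t750 t751) (Tr.n t752 t753)) (Tr.n (Tr.n t754 t755) (Tr.n t756 t757)))))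
noncomputable def u791 : Tr := (Tr.n (Tr.n (Tr.n (Tr.n (Tr.n t759 t760) (Tr.n t761 t762)) (Tr.n (Tr.n t763 t764) (Tr.n t765 t766))) (Tr.n (Tr.n (Tr.n t767 t768) (Tr.n t769 t770)) (Tr.n (Tr.n t771 t772) (Tr.n t773 t774)))) (Tr.n (Tr.n (Tr.n (Tr.n t775 t776) (Tr.n t777 t778)) (Tr.n (Tr.n t779 t780) (Tr.n t781 t782))) (Tr.n (Tr.n (Tr.n t783 t784) (Tr.n t785 t786)) (Tr.n (Tr.n t787 t788) (Tr.n t789 t790)))))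
noncomputable def tab11 : Tr := (Tr.n u758 u791)
noncomputable def u824 : Tr := (Tr.n (Tr.n (Tr.n (Tr.n (Tr.n t792 t793) (Tr.n t794 t795)) (Tr.n (Tr.n t796 t797) (Tr.n t798 t799))) (Tr.n (Tr.n (Tr.n t800 t801) (Tr.n t802 t803)) (Tr.n (Tr.n t804 t805) (Tr.n t806 t807)))) (Tr.n (Tr.n (Tr.n (Tr.n t808 t809) (Tr.n t810 t811)) (Tr.n (Tr.n t812 t813) (Tr.n t814 t815))) (Tr.n (Tr.n (Tr.n t816 t817) (Tr.n t818 t819)) (Tr.n (Tr.n t820 t821) (Tr.n t822 t823)))))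
noncomputable def u857 : Tr := (Tr.n (Tr.n (Tr.n (Tr.n (Tr.n t825 t826) (Tr.n t827 t828)) (Tr.n (Tr.n t829 t830) (Tr.n t831 t832))) (Tr.n (Tr.n (Tr.n t833 t834) (Tr.n t835 t836)) (Tr.n (Tr.n t837 t838) (Tr.n t839 t840)))) (Tr.n (Tr.n (Tr.n (Tr.n t841 t842) (Tr.n t843 t844)) (Tr.n (Tr.n t845 t846) (Tr.n t847 t848))) (Tr.n (Tr.n (Tr.n t849 t850) (Tr.n t851 t852)) (Tr.n (Tr.n t853 t854) (Tr.n t855 t856)))))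
noncomputable def tab12 : Tr := (Tr.n u824 u857)
noncomputable def u890 : Tr := (Tr.n (Tr.n (Tr.n (Tr.n (Tr.n t858 t859) (Tr.n t860 t861)) (Tr.n (Tr.n t862 t863) (Tr.n t864 t865))) (Tr.n (Tr.n (Tr.n t866 t867) (Tr.n t868 t869)) (Tr.n (Tr.n t870 t871) (Tr.n t872 t873)))) (Tr.n (Tr.n (Tr.n (Tr.n t874 t875) (Tr.n t876 t877)) (Tr.n (Tr.n t878 t879) (Tr.n t880 t881))) (Tr.n (Tr.n (Tr.n t882 t883) (Tr.n t884 t885)) (Tr.n (Tr.n t886 t887) (Tr.n t888 t889)))))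
noncomputable def u923 : Tr := (Tr.n (Tr.n (Tr.n (Tr.n (Tr.n t891 t892) (Tr.n t893 t894)) (Tr.n (Tr.n t895 t896) (Tr.n t897 t898))) (Tr.n (Tr.n (Tr.n t899 t900) (Tr.n t901 t902)) (Tr.n (Tr.n t903 t904) (Tr.n t905 t906)))) (Tr.n (Tr.n (Tr.n (Tr.n t907 t908) (Tr.n t909 t910)) (Tr.n (Tr.n t911 t912) (Tr.n t913 t914))) (Tr.n (Tr.n (Tr.n t915 t916) (Tr.n t917 t918)) (Tr.n (Tr.n t919 t920) (Tr.n t921 t922)))))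
noncomputable def tab13 : Tr := (Tr.n u890 u923)
noncomputable def u956 : Tr := (Tr.n (Tr.n (Tr.n (Tr.n (Tr.n t924 t925) (Tr.n t926 t927)) (Tr.n (Tr.n t928 t929) (Tr.n t930 t931))) (Tr.n (Tr.n (Tr.n t932 t933) (Tr.n t934 t935)) (Tr.n (Tr.n t936 t937) (Tr.n t938 t939)))) (Tr.n (Tr.n (Tr.n (Tr.n t940 t941) (Tr.n t942 t943)) (Tr.n (Tr.n t944 t945) (Tr.n t946 t947))) (Tr.n (Tr.n (Tr.n t948 t949) (Tr.n t950 t951)) (Tr.n (Tr.n t952 t953) (Tr.n t954 t955)))))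
noncomputable def u989 : Tr := (Tr.n (Tr.n (Tr.n (Tr.n (Tr.n t957 t958) (Tr.n t959 t960)) (Tr.n (Tr.n t961 t962) (Tr.n t963 t964))) (Tr.n (Tr.n (Tr.n t965 t966) (Tr.n t967 t968)) (Tr.n (Tr.n t969 t970) (Tr.n t971 t972)))) (Tr.n (Tr.n (Tr.n (Tr.n t973 t974) (Tr.n t975 t976)) (Tr.n (Tr.n t977 t978) (Tr.n t979 t980))) (Tr.n (Tr.n (Tr.n t981 t982) (Tr.n t983 t984)) (Tr.n (Tr.n t985 t986) (Tr.n t987 t988)))))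
noncomputable def tab14 : Tr := (Tr.n u956 u989)
noncomputable def u1022 : Tr := (Tr.n (Tr.n (Tr.n (Tr.n (Tr.n t990 t991) (Tr.n t992 t993)) (Tr.n (Tr.n t994 t995) (Tr.n t996 t997))) (Tr.n (Tr.n (Tr.n t998 t999) (Tr.n t1000 t1001)) (Tr.n (Tr.n t1002 t1003) (Tr.n t1004 t1005)))) (Tr.n (Tr.n (Tr.n (Tr.n t1006 t1007) (Tr.n t1008 t1009)) (Tr.n (Tr.n t1010 t1011) (Tr.n t1012 t1013))) (Tr.n (Tr.n (Tr.n t1014 t1015) (Tr.n t1016 t1017)) (Tr.n (Tr.n t1018 t1019) (Tr.n t1020 t1021)))))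
noncomputable def u1055 : Tr := (Tr.n (Tr.n (Tr.n (Tr.n (Tr.n t1023 t1024) (Tr.n t1025 t1026)) (Tr.n (Tr.n t1027 t1028) (Tr.n t1029 t1030))) (Tr.n (Tr.n (Tr.n t1031 t1032) (Tr.n t1033 t1034)) (Tr.n (Tr.n t1035 t1036) (Tr.n t1037 t1038)))) (Tr.n (Tr.n (Tr.n (Tr.n t1039 t1040) (Tr.n t1041 t1042)) (Tr.n (Tr.n t1043 t1044) (Tr.n t1045 t1046))) (Tr.n (Tr.n (Tr.n t1047 t1048) (Tr.n t1049 t1050)) (Tr.n (Tr.n t1051 t1052) (Tr.n t1053 t1054)))))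
noncomputable def tab15 : Tr := (Tr.n u1022 u1055)
noncomputable def u1088 : Tr := (Tr.n (Tr.n (Tr.n (Tr.n (Tr.n t1056 t1057) (Tr.n t1058 t1059)) (Tr.n (Tr.n t1060 t1061) (Tr.n t1062 t1063))) (Tr.n (Tr.n (Tr.n t1064 t1065) (Tr.n t1066 t1067)) (Tr.n (Tr.n t1068 t1069) (Tr.n t1070 t1071)))) (Tr.n (Tr.n (Tr.n (Tr.n t1072 t1073) (Tr.n t1074 t1075)) (Tr.n (Tr.n t1076 t1077) (Tr.n t1078 t1079))) (Tr.n (Tr.n (Tr.n t1080 t1081) (Tr.n t1082 t1083)) (Tr.n (Tr.n t1084 t1085) (Tr.n t1086 t1087)))))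
noncomputable def u1121 : Tr := (Tr.n (Tr.n (Tr.n (Tr.n (Tr.n t1089 t1090) (Tr.n t1091 t1092)) (Tr.n (Tr.n t1093 t1094) (Tr.n t1095 t1096))) (Tr.n (Tr.n (Tr.n t1097 t1098) (Tr.n t1099 t1100)) (Tr.n (Tr.n t1101 t1102) (Tr.n t1103 t1104)))) (Tr.n (Tr.n (Tr.n (Tr.n t1105 t1106) (Tr.n t1107 t1108)) (Tr.n (Tr.n t1109 t1110) (Tr.n t1111 t1112))) (Tr.n (Tr.n (Tr.n t1113 t1114) (Tr.n t1115 t1116)) (Tr.n (Tr.n t1117 t1118) (Tr.n t1119 t1120)))))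
noncomputable def tab16 : Tr := (Tr.n u1088 u1121)
noncomputable def u1154 : Tr := (Tr.n (Tr.n (Tr.n (Tr.n (Tr.n t1122 t1123) (Tr.n t1124 t1125)) (Tr.n (Tr.n t1126 t1127) (Tr.n t1128 t1129))) (Tr.n (Tr.n (Tr.n t1130 t1131) (Tr.n t1132 t1133)) (Tr.n (Tr.n t1134 t1135) (Tr.n t1136 t1137)))) (Tr.n (Tr.n (Tr.n (Tr.n t1138 t1139) (Tr.n t1140 t1141)) (Tr.n (Tr.n t1142 t1143) (Tr.n t1144 t1145))) (Tr.n (Tr.n (Tr.n t1146 t1147) (Tr.n t1148 t1149)) (Tr.n (Tr.n t1150 t1151) (Tr.n t1152 t1153)))))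
noncomputable def u1187 : Tr := (Tr.n (Tr.n (Tr.n (Tr.n (Tr.n t1155 t1156) (Tr.n t1157 t1158)) (Tr.n (Tr.n t1159 t1160) (Tr.n t1161 t1162))) (Tr.n (Tr.n (Tr.n t1163 t1164) (Tr.n t1165 t1166)) (Tr.n (Tr.n t1167 t1168) (Tr.n t1169 t1170)))) (Tr.n (Tr.n (Tr.n (Tr.n t1171 t1172) (Tr.n t1173 t1174)) (Tr.n (Tr.n t1175 t1176) (Tr.n t1177 t1178))) (Tr.n (Tr.n (Tr.n t1179 t1180) (Tr.n t1181 t1182)) (Tr.n (Tr.n t1183 t1184) (Tr.n t1185 t1186)))))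
noncomputable def tab17 : Tr := (Tr.n u1154 u1187)
noncomputable def u1220 : Tr := (Tr.n (Tr.n (Tr.n (Tr.n (Tr.n t1188 t1189) (Tr.n t1190 t1191)) (Tr.n (Tr.n t1192 t1193) (Tr.n t1194 t1195))) (Tr.n (Tr.n (Tr.n t1196 t1197) (Tr.n t1198 t1199)) (Tr.n (Tr.n t1200 t1201) (Tr.n t1202 t1203)))) (Tr.n (Tr.n (Tr.n (Tr.n t1204 t1205) (Tr.n t1206 t1207)) (Tr.n (Tr.n t1208 t1209) (Tr.n t1210 t1211))) (Tr.n (Tr.n (Tr.n t1212 t1213) (Tr.n t1214 t1215)) (Tr.n (Tr.n t1216 t1217) (Tr.n t1218 t1219)))))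
noncomputable def u1253 : Tr := (Tr.n (Tr.n (Tr.n (Tr.n (Tr.n t1221 t1222) (Tr.n t1223 t1224)) (Tr.n (Tr.n t1225 t1226) (Tr.n t1227 t1228))) (Tr.n (Tr.n (Tr.n t1229 t1230) (Tr.n t1231 t1232)) (Tr.n (Tr.n t1233 t1234) (Tr.n t1235 t1236)))) (Tr.n (Tr.n (Tr.n (Tr.n t1237 t1238) (Tr.n t1239 t1240)) (Tr.n (Tr.n t1241 t1242) (Tr.n t1243 t1244))) (Tr.n (Tr.n (Tr.n t1245 t1246) (Tr.n t1247 t1248)) (Tr.n (Tr.n t1249 t1250) (Tr.n t1251 t1252)))))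
noncomputable def tab18 : Tr := (Tr.n u1220 u1253)
noncomputable def ty0 : TT := (TT.n (TT.n (TT.n (TT.n (TT.n (TT.n (TT.l (Ty.rel1 (nat_lit 1)))
 (TT.l (Ty.relL (nat_lit 3) [nat_lit 4, nat_lit 5, nat_lit 0, nat_lit 3, nat_lit 4, nat_lit 5, nat_lit 0, nat_lit 3, nat_lit 4, nat_lit 5, nat_lit 0, nat_lit 3, nat_lit 4, nat_lit 5, nat_lit 0, nat_lit 3, nat_lit 4, nat_lit 5])))
 (TT.l (Ty.relL (nat_lit 4) [nat_lit 0, nat_lit 5, nat_lit 1, nat_lit 4, nat_lit 1, nat_lit 4, nat_lit 5, nat_lit 4])))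
 (TT.n (TT.l (Ty.srel [nat_lit 4, nat_lit 0, nat_lit 5, nat_lit 1, nat_lit 4, nat_lit 1, nat_lit 4, nat_lit 5, nat_lit 4]))
 (TT.l (Ty.srel [nat_lit 5, nat_lit 1, nat_lit 4, nat_lit 1, nat_lit 4, nat_lit 5, nat_lit 4, nat_lit 0, nat_lit 4]))))
 (TT.n (TT.n (TT.l (Ty.srel [nat_lit 1]))
 (TT.l (Ty.srel [nat_lit 6, nat_lit 5, nat_lit 0, nat_lit 5, nat_lit 0, nat_lit 6, nat_lit 5, nat_lit 0, nat_lit 5, nat_lit 6])))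
 (TT.n (TT.l (Ty.relL (nat_lit 5) [nat_lit 0, nat_lit 4, nat_lit 1, nat_lit 5, nat_lit 1, nat_lit 5, nat_lit 4, nat_lit 5]))
 (TT.l (Ty.srel [nat_lit 3, nat_lit 4, nat_lit 0, nat_lit 4, nat_lit 3, nat_lit 0, nat_lit 3, nat_lit 4, nat_lit 0, nat_lit 4])))))
 (TT.n (TT.n (TT.n (TT.l (Ty.srel [nat_lit 7, nat_lit 2, nat_lit 0]))
 (TT.l (Ty.relL (nat_lit 5) [nat_lit 6, nat_lit 0, nat_lit 6, nat_lit 5, nat_lit 0, nat_lit 5, nat_lit 0, nat_lit 6, nat_lit 5])))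
 (TT.n (TT.l (Ty.relL (nat_lit 4) [nat_lit 0, nat_lit 3, nat_lit 4, nat_lit 0, nat_lit 4, nat_lit 3, nat_lit 0, nat_lit 3, nat_lit 4]))
 (TT.l (Ty.relL (nat_lit 6) [nat_lit 5, nat_lit 0, nat_lit 5, nat_lit 6, nat_lit 0, nat_lit 6, nat_lit 5, nat_lit 0, nat_lit 5]))))
 (TT.n (TT.n (TT.l (Ty.rel3 (nat_lit 0) (nat_lit 7) (nat_lit 2)))
 (TT.l (Ty.relL (nat_lit 3) [nat_lit 4, nat_lit 0, nat_lit 4, nat_lit 0, nat_lit 3, nat_lit 4, nat_lit 0, nat_lit 4, nat_lit 3])))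
 (TT.n (TT.l (Ty.srel [nat_lit 3, nat_lit 4, nat_lit 0, nat_lit 4, nat_lit 0, nat_lit 3, nat_lit 4, nat_lit 0, nat_lit 4, nat_lit 3]))
 (TT.l (Ty.srel [nat_lit 4, nat_lit 1, nat_lit 5, nat_lit 1, nat_lit 5, nat_lit 4, nat_lit 5, nat_lit 0, nat_lit 5]))))))
 (TT.n (TT.n (TT.n (TT.n (TT.n (TT.l (Ty.rel3 (nat_lit 7) (nat_lit 2) (nat_lit 0)))
 (TT.l (Ty.skip)))
 (TT.l (Ty.srel [nat_lit 5, nat_lit 6, nat_lit 0, nat_lit 6, nat_lit 5, nat_lit 0, nat_lit 5, nat_lit 0, nat_lit 6, nat_lit 5])))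
 (TT.n (TT.l (Ty.relL (nat_lit 4) [nat_lit 3, nat_lit 0, nat_lit 3, nat_lit 4, nat_lit 0, nat_lit 4, nat_lit 0, nat_lit 3, nat_lit 4]))
 (TT.l (Ty.srel [nat_lit 3, nat_lit 4, nat_lit 5, nat_lit 0, nat_lit 3, nat_lit 4, nat_lit 5, nat_lit 0, nat_lit 3, nat_lit 4, nat_lit 5, nat_lit 0, nat_lit 3, nat_lit 4, nat_lit 5, nat_lit 0, nat_lit 3, nat_lit 4, nat_lit 5]))))
 (TT.n (TT.n (TT.l (Ty.srel [nat_lit 0, nat_lit 7, nat_lit 2]))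
 (TT.l (Ty.srel [nat_lit 4, nat_lit 0, nat_lit 3, nat_lit 4, nat_lit 0, nat_lit 4, nat_lit 3, nat_lit 0, nat_lit 3, nat_lit 4])))
 (TT.n (TT.l (Ty.relL (nat_lit 5) [nat_lit 0, nat_lit 6, nat_lit 5, nat_lit 0, nat_lit 5, nat_lit 6, nat_lit 0, nat_lit 6, nat_lit 5]))
 (TT.l (Ty.srel [nat_lit 5, nat_lit 0, nat_lit 6, nat_lit 5, nat_lit 0, nat_lit 5, nat_lit 6, nat_lit 0, nat_lit 6, nat_lit 5])))))
 (TT.n (TT.n (TT.n (TT.l (Ty.dfn))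
 (TT.l (Ty.relL (nat_lit 6) [nat_lit 5, nat_lit 0, nat_lit 5, nat_lit 0, nat_lit 6, nat_lit 5, nat_lit 0, nat_lit 5, nat_lit 6])))
 (TT.n (TT.l (Ty.relL (nat_lit 5) [nat_lit 1, nat_lit 4, nat_lit 1, nat_lit 4, nat_lit 5, nat_lit 4, nat_lit 0, nat_lit 4]))
 (TT.l (Ty.relL (nat_lit 3) [nat_lit 4, nat_lit 0, nat_lit 4, nat_lit 3, nat_lit 0, nat_lit 3, nat_lit 4, nat_lit 0, nat_lit 4]))))
 (TT.n (TT.n (TT.l (Ty.srel [nat_lit 5, nat_lit 0, nat_lit 4, nat_lit 1, nat_lit 5, nat_lit 1, nat_lit 5, nat_lit 4, nat_lit 5]))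
 (TT.l (Ty.srel [nat_lit 6, nat_lit 5, nat_lit 0, nat_lit 5, nat_lit 6, nat_lit 0, nat_lit 6, nat_lit 5, nat_lit 0, nat_lit 5])))
 (TT.n (TT.l (Ty.srel [nat_lit 4, nat_lit 3, nat_lit 0, nat_lit 3, nat_lit 4, nat_lit 0, nat_lit 4, nat_lit 0, nat_lit 3, nat_lit 4]))
 (TT.l (Ty.relL (nat_lit 4) [nat_lit 1, nat_lit 5, nat_lit 1, nat_lit 5, nat_lit 4, nat_lit 5, nat_lit 0, nat_lit 5])))))))
noncomputable def ty1 : TT := (TT.n (TT.n (TT.n (TT.n (TT.n (TT.n (TT.l (Ty.rel1 (nat_lit 0)))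
 (TT.l (Ty.relL (nat_lit 5) [nat_lit 4, nat_lit 3, nat_lit 1, nat_lit 5, nat_lit 4, nat_lit 3, nat_lit 1, nat_lit 5, nat_lit 4, nat_lit 3, nat_lit 1, nat_lit 5, nat_lit 4, nat_lit 3, nat_lit 1, nat_lit 5, nat_lit 4, nat_lit 3])))
 (TT.l (Ty.srel [nat_lit 5, nat_lit 6, nat_lit 1, nat_lit 5, nat_lit 1, nat_lit 5, nat_lit 6, nat_lit 1, nat_lit 6, nat_lit 5])))
 (TT.n (TT.l (Ty.srel [nat_lit 4, nat_lit 5, nat_lit 4, nat_lit 0, nat_lit 4, nat_lit 0, nat_lit 5, nat_lit 1, nat_lit 4]))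
 (TT.l (Ty.relL (nat_lit 5) [nat_lit 6, nat_lit 1, nat_lit 6, nat_lit 5, nat_lit 1, nat_lit 5, nat_lit 6, nat_lit 1, nat_lit 5]))))
 (TT.n (TT.n (TT.l (Ty.srel [nat_lit 2, nat_lit 7, nat_lit 1]))
 (TT.l (Ty.srel [nat_lit 5, nat_lit 6, nat_lit 1, nat_lit 6, nat_lit 5, nat_lit 1, nat_lit 5, nat_lit 6, nat_lit 1, nat_lit 5])))
 (TT.n (TT.l (Ty.srel [nat_lit 5, nat_lit 4, nat_lit 5, nat_lit 0, nat_lit 5, nat_lit 0, nat_lit 4, nat_lit 1, nat_lit 5]))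
 (TT.l (Ty.srel [nat_lit 5, nat_lit 1, nat_lit 5, nat_lit 6, nat_lit 1, nat_lit 6, nat_lit 5, nat_lit 1, nat_lit 5, nat_lit 6])))))
 (TT.n (TT.n (TT.n (TT.l (Ty.srel [nat_lit 0]))
 (TT.l (Ty.relL (nat_lit 3) [nat_lit 4, nat_lit 1, nat_lit 4, nat_lit 3, nat_lit 1, nat_lit 4, nat_lit 1, nat_lit 4, nat_lit 3])))
 (TT.n (TT.l (Ty.srel [nat_lit 4, nat_lit 3, nat_lit 1, nat_lit 3, nat_lit 4, nat_lit 1, nat_lit 4, nat_lit 3, nat_lit 1, nat_lit 4]))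
 (TT.l (Ty.relL (nat_lit 4) [nat_lit 1, nat_lit 4, nat_lit 3, nat_lit 1, nat_lit 3, nat_lit 4, nat_lit 1, nat_lit 4, nat_lit 3]))))
 (TT.n (TT.n (TT.l (Ty.srel [nat_lit 3, nat_lit 4, nat_lit 1, nat_lit 4, nat_lit 3, nat_lit 1, nat_lit 4, nat_lit 1, nat_lit 4, nat_lit 3]))
 (TT.l (Ty.relL (nat_lit 6) [nat_lit 5, nat_lit 1, nat_lit 5, nat_lit 6, nat_lit 1, nat_lit 5, nat_lit 1, nat_lit 5, nat_lit 6])))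
 (TT.n (TT.l (Ty.srel [nat_lit 4, nat_lit 3, nat_lit 1, nat_lit 4, nat_lit 1, nat_lit 4, nat_lit 3, nat_lit 1, nat_lit 3, nat_lit 4]))
 (TT.l (Ty.relL (nat_lit 4) [nat_lit 1, nat_lit 4, nat_lit 5, nat_lit 4, nat_lit 0, nat_lit 4, nat_lit 0, nat_lit 5]))))))
 (TT.n (TT.n (TT.n (TT.n (TT.n (TT.l (Ty.dfn))
 (TT.l (Ty.skip)))
 (TT.l (Ty.relL (nat_lit 4) [nat_lit 3, nat_lit 1, nat_lit 4, nat_lit 1, nat_lit 4, nat_lit 3, nat_lit 1, nat_lit 3, nat_lit 4])))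
 (TT.n (TT.l (Ty.relL (nat_lit 4) [nat_lit 5, nat_lit 4, nat_lit 0, nat_lit 4, nat_lit 0, nat_lit 5, nat_lit 1, nat_lit 4]))
 (TT.l (Ty.relL (nat_lit 4) [nat_lit 3, nat_lit 1, nat_lit 3, nat_lit 4, nat_lit 1, nat_lit 4, nat_lit 3, nat_lit 1, nat_lit 4]))))
 (TT.n (TT.n (TT.l (Ty.rel3 (nat_lit 2) (nat_lit 7) (nat_lit 1)))
 (TT.l (Ty.srel [nat_lit 4, nat_lit 1, nat_lit 4, nat_lit 3, nat_lit 1, nat_lit 3, nat_lit 4, nat_lit 1, nat_lit 4, nat_lit 3])))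
 (TT.n (TT.l (Ty.srel [nat_lit 6, nat_lit 5, nat_lit 1, nat_lit 5, nat_lit 6, nat_lit 1, nat_lit 5, nat_lit 1, nat_lit 5, nat_lit 6]))
 (TT.l (Ty.srel [nat_lit 4, nat_lit 1, nat_lit 4, nat_lit 5, nat_lit 4, nat_lit 0, nat_lit 4, nat_lit 0, nat_lit 5])))))
 (TT.n (TT.n (TT.n (TT.l (Ty.srel [nat_lit 1, nat_lit 2, nat_lit 7]))
 (TT.l (Ty.relL (nat_lit 5) [nat_lit 1, nat_lit 5, nat_lit 6, nat_lit 1, nat_lit 6, nat_lit 5, nat_lit 1, nat_lit 5, nat_lit 6])))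
 (TT.n (TT.l (Ty.relL (nat_lit 5) [nat_lit 4, nat_lit 5, nat_lit 0, nat_lit 5, nat_lit 0, nat_lit 4, nat_lit 1, nat_lit 5]))
 (TT.l (Ty.srel [nat_lit 5, nat_lit 1, nat_lit 5, nat_lit 4, nat_lit 5, nat_lit 0, nat_lit 5, nat_lit 0, nat_lit 4]))))
 (TT.n (TT.n (TT.l (Ty.rel3 (nat_lit 1) (nat_lit 2) (nat_lit 7)))
 (TT.l (Ty.relL (nat_lit 5) [nat_lit 6, nat_lit 1, nat_lit 5, nat_lit 1, nat_lit 5, nat_lit 6, nat_lit 1, nat_lit 6, nat_lit 5])))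
 (TT.n (TT.l (Ty.relL (nat_lit 5) [nat_lit 1, nat_lit 5, nat_lit 4, nat_lit 5, nat_lit 0, nat_lit 5, nat_lit 0, nat_lit 4]))
 (TT.l (Ty.srel [nat_lit 5, nat_lit 4, nat_lit 3, nat_lit 1, nat_lit 5, nat_lit 4, nat_lit 3, nat_lit 1, nat_lit 5, nat_lit 4, nat_lit 3, nat_lit 1, nat_lit 5, nat_lit 4, nat_lit 3, nat_lit 1, nat_lit 5, nat_lit 4, nat_lit 3])))))))
noncomputable def ty2 : TT := (TT.n (TT.n (TT.n (TT.n (TT.n (TT.l (Ty.ssub [] []))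
 (TT.l (Ty.srel [nat_lit 3, nat_lit 2, nat_lit 3, nat_lit 2, nat_lit 3])))
 (TT.l (Ty.rel3 (nat_lit 7) (nat_lit 2) (nat_lit 7))))
 (TT.n (TT.n (TT.l (Ty.rel3 (nat_lit 4) (nat_lit 2) (nat_lit 4)))
 (TT.l (Ty.srel [nat_lit 4, nat_lit 5, nat_lit 4, nat_lit 5, nat_lit 4, nat_lit 5, nat_lit 4, nat_lit 5, nat_lit 7])))
 (TT.l (Ty.srel [nat_lit 7, nat_lit 2, nat_lit 7]))))
 (TT.n (TT.n (TT.n (TT.l (Ty.rel1 (nat_lit 2)))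
 (TT.l (Ty.srel [nat_lit 0, nat_lit 0, nat_lit 7])))
 (TT.l (Ty.rel5 (nat_lit 3) (nat_lit 2) (nat_lit 3) (nat_lit 2) (nat_lit 3))))
 (TT.n (TT.n (TT.l (Ty.rel3 (nat_lit 6) (nat_lit 2) (nat_lit 6)))
 (TT.l (Ty.skip)))
 (TT.l (Ty.srel [nat_lit 6, nat_lit 2, nat_lit 6])))))
 (TT.n (TT.n (TT.n (TT.n (TT.l (Ty.srel [nat_lit 2]))
 (TT.l (Ty.relL (nat_lit 4) [nat_lit 5, nat_lit 4, nat_lit 5, nat_lit 4, nat_lit 5, nat_lit 4, nat_lit 5, nat_lit 7])))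
 (TT.l (Ty.srel [nat_lit 5, nat_lit 2, nat_lit 5])))
 (TT.n (TT.n (TT.l (Ty.rel3 (nat_lit 5) (nat_lit 2) (nat_lit 5)))
 (TT.l (Ty.srel [nat_lit 7, nat_lit 5, nat_lit 4, nat_lit 5, nat_lit 4, nat_lit 5, nat_lit 4, nat_lit 5, nat_lit 4])))
 (TT.l (Ty.srel [nat_lit 4, nat_lit 2, nat_lit 4]))))
 (TT.n (TT.n (TT.n (TT.l (Ty.dfn))
 (TT.l (Ty.relL (nat_lit 7) [nat_lit 5, nat_lit 4, nat_lit 5, nat_lit 4, nat_lit 5, nat_lit 4, nat_lit 5, nat_lit 4])))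
 (TT.l (Ty.rel3 (nat_lit 7) (nat_lit 1) (nat_lit 1))))
 (TT.n (TT.l (Ty.srel [nat_lit 7, nat_lit 1, nat_lit 1]))
 (TT.l (Ty.rel3 (nat_lit 0) (nat_lit 0) (nat_lit 7)))))))
noncomputable def ty3 : TT := (TT.n (TT.n (TT.n (TT.n (TT.n (TT.l (Ty.ssub [] []))
 (TT.l (Ty.srel [nat_lit 0, nat_lit 3, nat_lit 4, nat_lit 0, nat_lit 4, nat_lit 0, nat_lit 3, nat_lit 4, nat_lit 0, nat_lit 4])))
 (TT.n (TT.l (Ty.srel [nat_lit 7, nat_lit 3, nat_lit 7]))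
 (TT.l (Ty.relL (nat_lit 1) [nat_lit 4, nat_lit 1, nat_lit 4, nat_lit 3, nat_lit 1, nat_lit 3, nat_lit 4, nat_lit 1, nat_lit 4]))))
 (TT.n (TT.n (TT.l (Ty.rel3 (nat_lit 5) (nat_lit 3) (nat_lit 5)))
 (TT.l (Ty.relL (nat_lit 4) [nat_lit 0, nat_lit 4, nat_lit 3, nat_lit 0, nat_lit 3, nat_lit 4, nat_lit 0, nat_lit 4, nat_lit 0])))
 (TT.n (TT.l (Ty.rel5 (nat_lit 2) (nat_lit 3) (nat_lit 2) (nat_lit 3) (nat_lit 2)))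
 (TT.l (Ty.srel [nat_lit 4, nat_lit 5, nat_lit 0, nat_lit 3, nat_lit 4, nat_lit 5, nat_lit 0, nat_lit 3, nat_lit 4, nat_lit 5, nat_lit 0, nat_lit 3, nat_lit 4, nat_lit 5, nat_lit 0, nat_lit 3, nat_lit 4, nat_lit 5, nat_lit 0])))))
 (TT.n (TT.n (TT.n (TT.l (Ty.dfn))
 (TT.l (Ty.relL (nat_lit 4) [nat_lit 0, nat_lit 4, nat_lit 0, nat_lit 3, nat_lit 4, nat_lit 0, nat_lit 4, nat_lit 3, nat_lit 0])))
 (TT.n (TT.l (Ty.srel [nat_lit 5, nat_lit 3, nat_lit 5]))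
 (TT.l (Ty.relL (nat_lit 1) [nat_lit 5, nat_lit 4, nat_lit 3, nat_lit 1, nat_lit 5, nat_lit 4, nat_lit 3, nat_lit 1, nat_lit 5, nat_lit 4, nat_lit 3, nat_lit 1, nat_lit 5, nat_lit 4, nat_lit 3, nat_lit 1, nat_lit 5, nat_lit 4]))))
 (TT.n (TT.n (TT.l (Ty.relL (nat_lit 4) [nat_lit 1, nat_lit 4, nat_lit 3, nat_lit 1, nat_lit 4, nat_lit 1, nat_lit 4, nat_lit 3, nat_lit 1]))
 (TT.l (Ty.srel [nat_lit 4, nat_lit 0, nat_lit 4, nat_lit 3, nat_lit 0, nat_lit 3, nat_lit 4, nat_lit 0, nat_lit 4, nat_lit 0])))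
 (TT.n (TT.l (Ty.srel [nat_lit 2, nat_lit 3, nat_lit 2, nat_lit 3, nat_lit 2]))
 (TT.l (Ty.skip))))))
 (TT.n (TT.n (TT.n (TT.n (TT.l (Ty.rel1 (nat_lit 3)))
 (TT.l (Ty.rel5 (nat_lit 4) (nat_lit 3) (nat_lit 4) (nat_lit 3) (nat_lit 4))))
 (TT.n (TT.l (Ty.srel [nat_lit 6, nat_lit 3, nat_lit 6]))
 (TT.l (Ty.srel [nat_lit 4, nat_lit 3, nat_lit 4, nat_lit 3, nat_lit 4]))))
 (TT.n (TT.n (TT.l (Ty.rel3 (nat_lit 6) (nat_lit 3) (nat_lit 6)))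
 (TT.l (Ty.relL (nat_lit 1) [nat_lit 3, nat_lit 4, nat_lit 1, nat_lit 4, nat_lit 3, nat_lit 1, nat_lit 4, nat_lit 1, nat_lit 4])))
 (TT.n (TT.l (Ty.srel [nat_lit 1, nat_lit 3, nat_lit 4, nat_lit 1, nat_lit 4, nat_lit 3, nat_lit 1, nat_lit 4, nat_lit 1, nat_lit 4]))
 (TT.l (Ty.relL (nat_lit 4) [nat_lit 5, nat_lit 0, nat_lit 3, nat_lit 4, nat_lit 5, nat_lit 0, nat_lit 3, nat_lit 4, nat_lit 5, nat_lit 0, nat_lit 3, nat_lit 4, nat_lit 5, nat_lit 0, nat_lit 3, nat_lit 4, nat_lit 5, nat_lit 0])))))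
 (TT.n (TT.n (TT.n (TT.l (Ty.srel [nat_lit 3]))
 (TT.l (Ty.srel [nat_lit 4, nat_lit 1, nat_lit 4, nat_lit 3, nat_lit 1, nat_lit 4, nat_lit 1, nat_lit 4, nat_lit 3, nat_lit 1])))
 (TT.n (TT.l (Ty.relL (nat_lit 0) [nat_lit 3, nat_lit 4, nat_lit 0, nat_lit 4, nat_lit 0, nat_lit 3, nat_lit 4, nat_lit 0, nat_lit 4]))
 (TT.l (Ty.srel [nat_lit 1, nat_lit 5, nat_lit 4, nat_lit 3, nat_lit 1, nat_lit 5, nat_lit 4, nat_lit 3, nat_lit 1, nat_lit 5, nat_lit 4, nat_lit 3, nat_lit 1, nat_lit 5, nat_lit 4, nat_lit 3, nat_lit 1, nat_lit 5, nat_lit 4]))))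
 (TT.n (TT.n (TT.l (Ty.rel3 (nat_lit 7) (nat_lit 3) (nat_lit 7)))
 (TT.l (Ty.srel [nat_lit 1, nat_lit 4, nat_lit 1, nat_lit 4, nat_lit 3, nat_lit 1, nat_lit 3, nat_lit 4, nat_lit 1, nat_lit 4])))
 (TT.l (Ty.srel [nat_lit 4, nat_lit 0, nat_lit 4, nat_lit 0, nat_lit 3, nat_lit 4, nat_lit 0, nat_lit 4, nat_lit 3, nat_lit 0]))))))
noncomputable def ty4 : TT := (TT.n (TT.n (TT.n (TT.n (TT.n (TT.n (TT.l (Ty.ssub [] []))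
 (TT.l (Ty.relL (nat_lit 3) [nat_lit 0, nat_lit 3, nat_lit 4, nat_lit 0, nat_lit 4, nat_lit 0, nat_lit 3, nat_lit 4, nat_lit 0])))
 (TT.n (TT.l (Ty.srel [nat_lit 5, nat_lit 4, nat_lit 0, nat_lit 4, nat_lit 0, nat_lit 5, nat_lit 1, nat_lit 4, nat_lit 1]))
 (TT.l (Ty.relL (nat_lit 2) [nat_lit 7, nat_lit 5, nat_lit 4, nat_lit 5, nat_lit 4, nat_lit 5, nat_lit 4, nat_lit 5]))))
 (TT.n (TT.n (TT.l (Ty.relL (nat_lit 0) [nat_lit 4, nat_lit 3, nat_lit 0, nat_lit 3, nat_lit 4, nat_lit 0, nat_lit 4, nat_lit 0, nat_lit 3]))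
 (TT.l (Ty.srel [nat_lit 2, nat_lit 4, nat_lit 2])))
 (TT.n (TT.l (Ty.srel [nat_lit 5, nat_lit 4, nat_lit 5, nat_lit 4, nat_lit 5, nat_lit 4, nat_lit 2, nat_lit 7, nat_lit 5]))
 (TT.l (Ty.srel [nat_lit 5, nat_lit 0, nat_lit 3, nat_lit 4, nat_lit 5, nat_lit 0, nat_lit 3, nat_lit 4, nat_lit 5, nat_lit 0, nat_lit 3, nat_lit 4, nat_lit 5, nat_lit 0, nat_lit 3, nat_lit 4, nat_lit 5, nat_lit 0, nat_lit 3])))))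
 (TT.n (TT.n (TT.n (TT.l (Ty.relL (nat_lit 5) [nat_lit 0, nat_lit 5, nat_lit 0, nat_lit 4, nat_lit 1, nat_lit 5, nat_lit 1, nat_lit 5]))
 (TT.l (Ty.relL (nat_lit 1) [nat_lit 4, nat_lit 3, nat_lit 1, nat_lit 4, nat_lit 1, nat_lit 4, nat_lit 3, nat_lit 1, nat_lit 3])))
 (TT.n (TT.l (Ty.relL (nat_lit 5) [nat_lit 4, nat_lit 5, nat_lit 4, nat_lit 5, nat_lit 4, nat_lit 2, nat_lit 7, nat_lit 5]))
 (TT.l (Ty.relL (nat_lit 5) [nat_lit 4, nat_lit 5, nat_lit 4, nat_lit 5, nat_lit 4, nat_lit 5, nat_lit 7, nat_lit 2]))))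
 (TT.n (TT.n (TT.l (Ty.srel [nat_lit 3, nat_lit 4, nat_lit 3, nat_lit 4, nat_lit 3]))
 (TT.l (Ty.relL (nat_lit 0) [nat_lit 3, nat_lit 4, nat_lit 0, nat_lit 4, nat_lit 3, nat_lit 0, nat_lit 3, nat_lit 4, nat_lit 0])))
 (TT.n (TT.l (Ty.srel [nat_lit 0, nat_lit 3, nat_lit 4, nat_lit 0, nat_lit 4, nat_lit 3, nat_lit 0, nat_lit 3, nat_lit 4, nat_lit 0]))
 (TT.l (Ty.srel [nat_lit 5, nat_lit 4, nat_lit 5, nat_lit 7, nat_lit 2, nat_lit 4, nat_lit 5, nat_lit 4, nat_lit 5]))))))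
 (TT.n (TT.n (TT.n (TT.n (TT.l (Ty.dfn))
 (TT.l (Ty.srel [nat_lit 3, nat_lit 1, nat_lit 3, nat_lit 4, nat_lit 1, nat_lit 4, nat_lit 3, nat_lit 1, nat_lit 4, nat_lit 1])))
 (TT.n (TT.l (Ty.srel [nat_lit 1, nat_lit 4, nat_lit 5, nat_lit 4, nat_lit 0, nat_lit 4, nat_lit 0, nat_lit 5, nat_lit 1]))
 (TT.l (Ty.relL (nat_lit 5) [nat_lit 4, nat_lit 2, nat_lit 7, nat_lit 5, nat_lit 4, nat_lit 5, nat_lit 4, nat_lit 5]))))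
 (TT.n (TT.n (TT.l (Ty.relL (nat_lit 0) [nat_lit 4, nat_lit 0, nat_lit 3, nat_lit 4, nat_lit 0, nat_lit 4, nat_lit 3, nat_lit 0, nat_lit 3]))
 (TT.l (Ty.srel [nat_lit 6, nat_lit 4, nat_lit 6])))
 (TT.n (TT.l (Ty.srel [nat_lit 3, nat_lit 1, nat_lit 4, nat_lit 1, nat_lit 4, nat_lit 3, nat_lit 1, nat_lit 3, nat_lit 4, nat_lit 1]))
 (TT.l (Ty.relL (nat_lit 5) [nat_lit 4, nat_lit 5, nat_lit 4, nat_lit 5, nat_lit 7, nat_lit 2, nat_lit 4, nat_lit 5])))))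
 (TT.n (TT.n (TT.n (TT.l (Ty.relL (nat_lit 1) [nat_lit 5, nat_lit 1, nat_lit 5, nat_lit 4, nat_lit 5, nat_lit 0, nat_lit 5, nat_lit 0]))
 (TT.l (Ty.srel [nat_lit 7, nat_lit 4, nat_lit 7])))
 (TT.n (TT.l (Ty.relL (nat_lit 3) [nat_lit 1, nat_lit 4, nat_lit 1, nat_lit 4, nat_lit 3, nat_lit 1, nat_lit 3, nat_lit 4, nat_lit 1]))
 (TT.l (Ty.srel [nat_lit 5, nat_lit 7, nat_lit 2, nat_lit 4, nat_lit 5, nat_lit 4, nat_lit 5, nat_lit 4, nat_lit 5]))))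
 (TT.n (TT.n (TT.l (Ty.relL (nat_lit 1) [nat_lit 4, nat_lit 5, nat_lit 4, nat_lit 0, nat_lit 4, nat_lit 0, nat_lit 5, nat_lit 1]))
 (TT.l (Ty.srel [nat_lit 5, nat_lit 4, nat_lit 5, nat_lit 4, nat_lit 2, nat_lit 7, nat_lit 5, nat_lit 4, nat_lit 5])))
 (TT.n (TT.l (Ty.srel [nat_lit 1, nat_lit 5, nat_lit 1, nat_lit 5, nat_lit 4, nat_lit 5, nat_lit 0, nat_lit 5, nat_lit 0]))
 (TT.l (Ty.skip)))))))
 (TT.n (TT.n (TT.n (TT.n (TT.n (TT.l (Ty.rel1 (nat_lit 4)))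
 (TT.l (Ty.relL (nat_lit 5) [nat_lit 4, nat_lit 5, nat_lit 4, nat_lit 2, nat_lit 7, nat_lit 5, nat_lit 4, nat_lit 5])))
 (TT.n (TT.l (Ty.rel3 (nat_lit 2) (nat_lit 4) (nat_lit 2)))
 (TT.l (Ty.srel [nat_lit 5, nat_lit 4, nat_lit 2, nat_lit 7, nat_lit 5, nat_lit 4, nat_lit 5, nat_lit 4, nat_lit 5]))))
 (TT.n (TT.n (TT.l (Ty.relL (nat_lit 1) [nat_lit 4, nat_lit 3, nat_lit 1, nat_lit 3, nat_lit 4, nat_lit 1, nat_lit 4, nat_lit 3, nat_lit 1]))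
 (TT.l (Ty.srel [nat_lit 5, nat_lit 0, nat_lit 5, nat_lit 0, nat_lit 4, nat_lit 1, nat_lit 5, nat_lit 1, nat_lit 5])))
 (TT.n (TT.l (Ty.srel [nat_lit 2, nat_lit 7, nat_lit 5, nat_lit 4, nat_lit 5, nat_lit 4, nat_lit 5, nat_lit 4, nat_lit 5]))
 (TT.l (Ty.relL (nat_lit 5) [nat_lit 4, nat_lit 5, nat_lit 4, nat_lit 5, nat_lit 4, nat_lit 5, nat_lit 4, nat_lit 5, nat_lit 4, nat_lit 5, nat_lit 4, nat_lit 5, nat_lit 4, nat_lit 5])))))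
 (TT.n (TT.n (TT.n (TT.l (Ty.rel3 (nat_lit 6) (nat_lit 4) (nat_lit 6)))
 (TT.l (Ty.srel [nat_lit 1, nat_lit 4, nat_lit 3, nat_lit 1, nat_lit 4, nat_lit 1, nat_lit 4, nat_lit 3, nat_lit 1, nat_lit 3])))
 (TT.n (TT.l (Ty.srel [nat_lit 3, nat_lit 0, nat_lit 3, nat_lit 4, nat_lit 0, nat_lit 4, nat_lit 0, nat_lit 3, nat_lit 4, nat_lit 0]))
 (TT.l (Ty.relL (nat_lit 5) [nat_lit 7, nat_lit 2, nat_lit 4, nat_lit 5, nat_lit 4, nat_lit 5, nat_lit 4, nat_lit 5]))))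
 (TT.n (TT.n (TT.l (Ty.srel [nat_lit 0, nat_lit 5, nat_lit 1, nat_lit 4, nat_lit 1, nat_lit 4, nat_lit 5, nat_lit 4, nat_lit 0]))
 (TT.l (Ty.relL (nat_lit 3) [nat_lit 1, nat_lit 5, nat_lit 4, nat_lit 3, nat_lit 1, nat_lit 5, nat_lit 4, nat_lit 3, nat_lit 1, nat_lit 5, nat_lit 4, nat_lit 3, nat_lit 1, nat_lit 5, nat_lit 4, nat_lit 3, nat_lit 1, nat_lit 5])))
 (TT.n (TT.l (Ty.relL (nat_lit 0) [nat_lit 4, nat_lit 0, nat_lit 5, nat_lit 1, nat_lit 4, nat_lit 1, nat_lit 4, nat_lit 5]))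
 (TT.l (Ty.relL (nat_lit 5) [nat_lit 4, nat_lit 5, nat_lit 7, nat_lit 2, nat_lit 4, nat_lit 5, nat_lit 4, nat_lit 5]))))))
 (TT.n (TT.n (TT.n (TT.n (TT.l (Ty.srel [nat_lit 4]))
 (TT.l (Ty.srel [nat_lit 0, nat_lit 4, nat_lit 0, nat_lit 3, nat_lit 4, nat_lit 0, nat_lit 4, nat_lit 3, nat_lit 0, nat_lit 3])))
 (TT.n (TT.l (Ty.relL (nat_lit 0) [nat_lit 5, nat_lit 1, nat_lit 4, nat_lit 1, nat_lit 4, nat_lit 5, nat_lit 4, nat_lit 0]))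
 (TT.l (Ty.relL (nat_lit 5) [nat_lit 0, nat_lit 3, nat_lit 4, nat_lit 5, nat_lit 0, nat_lit 3, nat_lit 4, nat_lit 5, nat_lit 0, nat_lit 3, nat_lit 4, nat_lit 5, nat_lit 0, nat_lit 3, nat_lit 4, nat_lit 5, nat_lit 0, nat_lit 3]))))
 (TT.n (TT.n (TT.l (Ty.rel3 (nat_lit 7) (nat_lit 4) (nat_lit 7)))
 (TT.l (Ty.srel [nat_lit 1, nat_lit 4, nat_lit 3, nat_lit 1, nat_lit 3, nat_lit 4, nat_lit 1, nat_lit 4, nat_lit 3, nat_lit 1])))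
 (TT.n (TT.l (Ty.srel [nat_lit 3, nat_lit 1, nat_lit 5, nat_lit 4, nat_lit 3, nat_lit 1, nat_lit 5, nat_lit 4, nat_lit 3, nat_lit 1, nat_lit 5, nat_lit 4, nat_lit 3, nat_lit 1, nat_lit 5, nat_lit 4, nat_lit 3, nat_lit 1, nat_lit 5]))
 (TT.l (Ty.srel [nat_lit 5, nat_lit 4, nat_lit 5, nat_lit 4, nat_lit 5, nat_lit 7, nat_lit 2, nat_lit 4, nat_lit 5])))))
 (TT.n (TT.n (TT.n (TT.l (Ty.rel5 (nat_lit 3) (nat_lit 4) (nat_lit 3) (nat_lit 4) (nat_lit 3)))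
 (TT.l (Ty.relL (nat_lit 3) [nat_lit 1, nat_lit 3, nat_lit 4, nat_lit 1, nat_lit 4, nat_lit 3, nat_lit 1, nat_lit 4, nat_lit 1])))
 (TT.n (TT.l (Ty.srel [nat_lit 0, nat_lit 4, nat_lit 3, nat_lit 0, nat_lit 3, nat_lit 4, nat_lit 0, nat_lit 4, nat_lit 0, nat_lit 3]))
 (TT.l (Ty.srel [nat_lit 5, nat_lit 4, nat_lit 5, nat_lit 4, nat_lit 5, nat_lit 4, nat_lit 5, nat_lit 4, nat_lit 5, nat_lit 4, nat_lit 5, nat_lit 4, nat_lit 5, nat_lit 4, nat_lit 5]))))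
 (TT.n (TT.n (TT.l (Ty.srel [nat_lit 0, nat_lit 4, nat_lit 0, nat_lit 5, nat_lit 1, nat_lit 4, nat_lit 1, nat_lit 4, nat_lit 5]))
 (TT.l (Ty.srel [nat_lit 5, nat_lit 4, nat_lit 5, nat_lit 4, nat_lit 5, nat_lit 4, nat_lit 5, nat_lit 7, nat_lit 2])))
 (TT.l (Ty.relL (nat_lit 5) [nat_lit 4, nat_lit 0, nat_lit 4, nat_lit 0, nat_lit 5, nat_lit 1, nat_lit 4, nat_lit 1])))))))
noncomputable def ty5 : TT := (TT.n (TT.n (TT.n (TT.n (TT.n (TT.n (TT.l (Ty.ssub [] []))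
 (TT.l (Ty.srel [nat_lit 1, nat_lit 5, nat_lit 6, nat_lit 1, nat_lit 5, nat_lit 1, nat_lit 5, nat_lit 6, nat_lit 1, nat_lit 6])))
 (TT.n (TT.l (Ty.srel [nat_lit 0, nat_lit 5, nat_lit 6, nat_lit 0, nat_lit 6, nat_lit 5, nat_lit 0, nat_lit 5, nat_lit 0, nat_lit 6]))
 (TT.l (Ty.srel [nat_lit 4, nat_lit 5, nat_lit 4, nat_lit 5, nat_lit 4, nat_lit 5, nat_lit 4, nat_lit 2, nat_lit 7]))))
 (TT.n (TT.n (TT.l (Ty.rel3 (nat_lit 7) (nat_lit 5) (nat_lit 7)))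
 (TT.l (Ty.srel [nat_lit 4, nat_lit 2, nat_lit 7, nat_lit 5, nat_lit 4, nat_lit 5, nat_lit 4, nat_lit 5, nat_lit 4])))
 (TT.n (TT.l (Ty.srel [nat_lit 1, nat_lit 5, nat_lit 4, nat_lit 5, nat_lit 0, nat_lit 5, nat_lit 0, nat_lit 4, nat_lit 1]))
 (TT.l (Ty.relL (nat_lit 4) [nat_lit 5, nat_lit 4, nat_lit 5, nat_lit 4, nat_lit 5, nat_lit 4, nat_lit 5, nat_lit 4, nat_lit 5, nat_lit 4, nat_lit 5, nat_lit 4, nat_lit 5, nat_lit 4])))))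
 (TT.n (TT.n (TT.n (TT.l (Ty.relL (nat_lit 1) [nat_lit 4, nat_lit 1, nat_lit 4, nat_lit 5, nat_lit 4, nat_lit 0, nat_lit 4, nat_lit 0]))
 (TT.l (Ty.relL (nat_lit 4) [nat_lit 3, nat_lit 1, nat_lit 5, nat_lit 4, nat_lit 3, nat_lit 1, nat_lit 5, nat_lit 4, nat_lit 3, nat_lit 1, nat_lit 5, nat_lit 4, nat_lit 3, nat_lit 1, nat_lit 5, nat_lit 4, nat_lit 3, nat_lit 1])))
 (TT.n (TT.l (Ty.srel [nat_lit 3, nat_lit 5, nat_lit 3]))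
 (TT.l (Ty.srel [nat_lit 4, nat_lit 5, nat_lit 4, nat_lit 5, nat_lit 4, nat_lit 5, nat_lit 4, nat_lit 5, nat_lit 4, nat_lit 5, nat_lit 4, nat_lit 5, nat_lit 4, nat_lit 5, nat_lit 4]))))
 (TT.n (TT.n (TT.l (Ty.rel5 (nat_lit 6) (nat_lit 5) (nat_lit 6) (nat_lit 5) (nat_lit 6)))
 (TT.l (Ty.srel [nat_lit 0, nat_lit 5, nat_lit 0, nat_lit 6, nat_lit 5, nat_lit 0, nat_lit 5, nat_lit 6, nat_lit 0, nat_lit 6])))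
 (TT.n (TT.l (Ty.srel [nat_lit 0, nat_lit 6, nat_lit 5, nat_lit 0, nat_lit 5, nat_lit 6, nat_lit 0, nat_lit 6, nat_lit 5, nat_lit 0]))
 (TT.l (Ty.relL (nat_lit 4) [nat_lit 5, nat_lit 7, nat_lit 2, nat_lit 4, nat_lit 5, nat_lit 4, nat_lit 5, nat_lit 4]))))))
 (TT.n (TT.n (TT.n (TT.n (TT.l (Ty.dfn))
 (TT.l (Ty.srel [nat_lit 1, nat_lit 5, nat_lit 6, nat_lit 1, nat_lit 6, nat_lit 5, nat_lit 1, nat_lit 5, nat_lit 6, nat_lit 1])))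
 (TT.n (TT.l (Ty.srel [nat_lit 0, nat_lit 4, nat_lit 1, nat_lit 5, nat_lit 1, nat_lit 5, nat_lit 4, nat_lit 5, nat_lit 0]))
 (TT.l (Ty.srel [nat_lit 4, nat_lit 5, nat_lit 4, nat_lit 2, nat_lit 7, nat_lit 5, nat_lit 4, nat_lit 5, nat_lit 4]))))
 (TT.n (TT.n (TT.l (Ty.srel [nat_lit 6, nat_lit 1, nat_lit 5, nat_lit 1, nat_lit 5, nat_lit 6, nat_lit 1, nat_lit 6, nat_lit 5, nat_lit 1]))
 (TT.l (Ty.srel [nat_lit 4, nat_lit 0, nat_lit 4, nat_lit 0, nat_lit 5, nat_lit 1, nat_lit 4, nat_lit 1, nat_lit 4])))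
 (TT.n (TT.l (Ty.relL (nat_lit 7) [nat_lit 2, nat_lit 4, nat_lit 5, nat_lit 4, nat_lit 5, nat_lit 4, nat_lit 5, nat_lit 4]))
 (TT.l (Ty.srel [nat_lit 4, nat_lit 5, nat_lit 7, nat_lit 2, nat_lit 4, nat_lit 5, nat_lit 4, nat_lit 5, nat_lit 4])))))
 (TT.n (TT.n (TT.n (TT.l (Ty.relL (nat_lit 0) [nat_lit 6, nat_lit 5, nat_lit 0, nat_lit 5, nat_lit 6, nat_lit 0, nat_lit 6, nat_lit 5, nat_lit 0]))
 (TT.l (Ty.relL (nat_lit 1) [nat_lit 5, nat_lit 6, nat_lit 1, nat_lit 5, nat_lit 1, nat_lit 5, nat_lit 6, nat_lit 1, nat_lit 6])))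
 (TT.n (TT.l (Ty.relL (nat_lit 4) [nat_lit 5, nat_lit 0, nat_lit 5, nat_lit 0, nat_lit 4, nat_lit 1, nat_lit 5, nat_lit 1]))
 (TT.l (Ty.relL (nat_lit 4) [nat_lit 2, nat_lit 7, nat_lit 5, nat_lit 4, nat_lit 5, nat_lit 4, nat_lit 5, nat_lit 4]))))
 (TT.n (TT.n (TT.l (Ty.srel [nat_lit 4, nat_lit 5, nat_lit 4, nat_lit 5, nat_lit 4, nat_lit 2, nat_lit 7, nat_lit 5, nat_lit 4]))
 (TT.l (Ty.srel [nat_lit 2, nat_lit 5, nat_lit 2])))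
 (TT.n (TT.l (Ty.relL (nat_lit 0) [nat_lit 5, nat_lit 0, nat_lit 6, nat_lit 5, nat_lit 0, nat_lit 5, nat_lit 6, nat_lit 0, nat_lit 6]))
 (TT.l (Ty.skip)))))))
 (TT.n (TT.n (TT.n (TT.n (TT.n (TT.l (Ty.rel1 (nat_lit 5)))
 (TT.l (Ty.srel [nat_lit 6, nat_lit 1, nat_lit 6, nat_lit 5, nat_lit 1, nat_lit 5, nat_lit 6, nat_lit 1, nat_lit 5, nat_lit 1])))
 (TT.n (TT.l (Ty.relL (nat_lit 4) [nat_lit 5, nat_lit 4, nat_lit 5, nat_lit 4, nat_lit 2, nat_lit 7, nat_lit 5, nat_lit 4]))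
 (TT.l (Ty.relL (nat_lit 0) [nat_lit 5, nat_lit 0, nat_lit 4, nat_lit 1, nat_lit 5, nat_lit 1, nat_lit 5, nat_lit 4]))))
 (TT.n (TT.n (TT.l (Ty.relL (nat_lit 0) [nat_lit 4, nat_lit 1, nat_lit 5, nat_lit 1, nat_lit 5, nat_lit 4, nat_lit 5, nat_lit 0]))
 (TT.l (Ty.srel [nat_lit 0, nat_lit 5, nat_lit 0, nat_lit 4, nat_lit 1, nat_lit 5, nat_lit 1, nat_lit 5, nat_lit 4])))
 (TT.n (TT.l (Ty.relL (nat_lit 6) [nat_lit 0, nat_lit 6, nat_lit 5, nat_lit 0, nat_lit 5, nat_lit 0, nat_lit 6, nat_lit 5, nat_lit 0]))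
 (TT.l (Ty.srel [nat_lit 7, nat_lit 2, nat_lit 4, nat_lit 5, nat_lit 4, nat_lit 5, nat_lit 4, nat_lit 5, nat_lit 4])))))
 (TT.n (TT.n (TT.n (TT.l (Ty.rel3 (nat_lit 3) (nat_lit 5) (nat_lit 3)))
 (TT.l (Ty.relL (nat_lit 0) [nat_lit 5, nat_lit 6, nat_lit 0, nat_lit 6, nat_lit 5, nat_lit 0, nat_lit 5, nat_lit 0, nat_lit 6])))
 (TT.n (TT.l (Ty.relL (nat_lit 1) [nat_lit 5, nat_lit 6, nat_lit 1, nat_lit 6, nat_lit 5, nat_lit 1, nat_lit 5, nat_lit 6, nat_lit 1]))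
 (TT.l (Ty.srel [nat_lit 0, nat_lit 3, nat_lit 4, nat_lit 5, nat_lit 0, nat_lit 3, nat_lit 4, nat_lit 5, nat_lit 0, nat_lit 3, nat_lit 4, nat_lit 5, nat_lit 0, nat_lit 3, nat_lit 4, nat_lit 5, nat_lit 0, nat_lit 3, nat_lit 4]))))
 (TT.n (TT.n (TT.l (Ty.srel [nat_lit 4, nat_lit 5, nat_lit 0, nat_lit 5, nat_lit 0, nat_lit 4, nat_lit 1, nat_lit 5, nat_lit 1]))
 (TT.l (Ty.relL (nat_lit 4) [nat_lit 5, nat_lit 4, nat_lit 5, nat_lit 4, nat_lit 5, nat_lit 4, nat_lit 2, nat_lit 7])))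
 (TT.n (TT.l (Ty.srel [nat_lit 4, nat_lit 3, nat_lit 1, nat_lit 5, nat_lit 4, nat_lit 3, nat_lit 1, nat_lit 5, nat_lit 4, nat_lit 3, nat_lit 1, nat_lit 5, nat_lit 4, nat_lit 3, nat_lit 1, nat_lit 5, nat_lit 4, nat_lit 3, nat_lit 1]))
 (TT.l (Ty.relL (nat_lit 4) [nat_lit 5, nat_lit 4, nat_lit 5, nat_lit 7, nat_lit 2, nat_lit 4, nat_lit 5, nat_lit 4]))))))
 (TT.n (TT.n (TT.n (TT.n (TT.l (Ty.srel [nat_lit 5]))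
 (TT.l (Ty.relL (nat_lit 6) [nat_lit 1, nat_lit 6, nat_lit 5, nat_lit 1, nat_lit 5, nat_lit 6, nat_lit 1, nat_lit 5, nat_lit 1])))
 (TT.n (TT.l (Ty.relL (nat_lit 4) [nat_lit 0, nat_lit 4, nat_lit 0, nat_lit 5, nat_lit 1, nat_lit 4, nat_lit 1, nat_lit 4]))
 (TT.l (Ty.srel [nat_lit 4, nat_lit 5, nat_lit 4, nat_lit 5, nat_lit 4, nat_lit 5, nat_lit 7, nat_lit 2, nat_lit 4]))))
 (TT.n (TT.n (TT.l (Ty.srel [nat_lit 6, nat_lit 5, nat_lit 6, nat_lit 5, nat_lit 6]))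
 (TT.l (Ty.srel [nat_lit 1, nat_lit 4, nat_lit 1, nat_lit 4, nat_lit 5, nat_lit 4, nat_lit 0, nat_lit 4, nat_lit 0])))
 (TT.n (TT.l (Ty.relL (nat_lit 1) [nat_lit 5, nat_lit 4, nat_lit 5, nat_lit 0, nat_lit 5, nat_lit 0, nat_lit 4, nat_lit 1]))
 (TT.l (Ty.srel [nat_lit 4, nat_lit 5, nat_lit 4, nat_lit 5, nat_lit 7, nat_lit 2, nat_lit 4, nat_lit 5, nat_lit 4])))))
 (TT.n (TT.n (TT.n (TT.l (Ty.relL (nat_lit 6) [nat_lit 1, nat_lit 5, nat_lit 1, nat_lit 5, nat_lit 6, nat_lit 1, nat_lit 6, nat_lit 5, nat_lit 1]))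
 (TT.l (Ty.srel [nat_lit 7, nat_lit 5, nat_lit 7])))
 (TT.n (TT.l (Ty.srel [nat_lit 6, nat_lit 0, nat_lit 6, nat_lit 5, nat_lit 0, nat_lit 5, nat_lit 0, nat_lit 6, nat_lit 5, nat_lit 0]))
 (TT.l (Ty.relL (nat_lit 0) [nat_lit 3, nat_lit 4, nat_lit 5, nat_lit 0, nat_lit 3, nat_lit 4, nat_lit 5, nat_lit 0, nat_lit 3, nat_lit 4, nat_lit 5, nat_lit 0, nat_lit 3, nat_lit 4, nat_lit 5, nat_lit 0, nat_lit 3, nat_lit 4]))))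
 (TT.n (TT.n (TT.l (Ty.rel3 (nat_lit 2) (nat_lit 5) (nat_lit 2)))
 (TT.l (Ty.relL (nat_lit 4) [nat_lit 5, nat_lit 4, nat_lit 2, nat_lit 7, nat_lit 5, nat_lit 4, nat_lit 5, nat_lit 4])))
 (TT.l (Ty.relL (nat_lit 4) [nat_lit 5, nat_lit 4, nat_lit 5, nat_lit 4, nat_lit 5, nat_lit 7, nat_lit 2, nat_lit 4])))))))
noncomputable def ty6 : TT := (TT.n (TT.n (TT.n (TT.n (TT.n (TT.l (Ty.ssub [] []))
 (TT.l (Ty.srel [nat_lit 4, nat_lit 6, nat_lit 4])))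
 (TT.n (TT.l (Ty.rel3 (nat_lit 4) (nat_lit 6) (nat_lit 4)))
 (TT.l (Ty.srel [nat_lit 1, nat_lit 5, nat_lit 1, nat_lit 5, nat_lit 6, nat_lit 1, nat_lit 6, nat_lit 5, nat_lit 1, nat_lit 5]))))
 (TT.n (TT.n (TT.l (Ty.relL (nat_lit 0) [nat_lit 6, nat_lit 5, nat_lit 0, nat_lit 5, nat_lit 0, nat_lit 6, nat_lit 5, nat_lit 0, nat_lit 5]))
 (TT.l (Ty.relL (nat_lit 5) [nat_lit 0, nat_lit 5, nat_lit 6, nat_lit 0, nat_lit 6, nat_lit 5, nat_lit 0, nat_lit 5, nat_lit 0])))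
 (TT.l (Ty.rel3 (nat_lit 3) (nat_lit 6) (nat_lit 3)))))
 (TT.n (TT.n (TT.n (TT.l (Ty.dfn))
 (TT.l (Ty.srel [nat_lit 0, nat_lit 6, nat_lit 5, nat_lit 0, nat_lit 5, nat_lit 0, nat_lit 6, nat_lit 5, nat_lit 0, nat_lit 5])))
 (TT.n (TT.l (Ty.srel [nat_lit 5, nat_lit 6, nat_lit 5, nat_lit 6, nat_lit 5]))
 (TT.l (Ty.skip))))
 (TT.n (TT.n (TT.l (Ty.relL (nat_lit 5) [nat_lit 1, nat_lit 5, nat_lit 6, nat_lit 1, nat_lit 5, nat_lit 1, nat_lit 5, nat_lit 6, nat_lit 1]))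
 (TT.l (Ty.srel [nat_lit 2, nat_lit 6, nat_lit 2])))
 (TT.l (Ty.srel [nat_lit 1, nat_lit 6, nat_lit 5, nat_lit 1, nat_lit 5, nat_lit 6, nat_lit 1, nat_lit 5, nat_lit 1, nat_lit 5])))))
 (TT.n (TT.n (TT.n (TT.n (TT.l (Ty.rel1 (nat_lit 6)))
 (TT.l (Ty.relL (nat_lit 5) [nat_lit 0, nat_lit 5, nat_lit 0, nat_lit 6, nat_lit 5, nat_lit 0, nat_lit 5, nat_lit 6, nat_lit 0])))
 (TT.n (TT.l (Ty.srel [nat_lit 3, nat_lit 6, nat_lit 3]))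
 (TT.l (Ty.relL (nat_lit 1) [nat_lit 5, nat_lit 1, nat_lit 5, nat_lit 6, nat_lit 1, nat_lit 6, nat_lit 5, nat_lit 1, nat_lit 5]))))
 (TT.n (TT.n (TT.l (Ty.rel5 (nat_lit 5) (nat_lit 6) (nat_lit 5) (nat_lit 6) (nat_lit 5)))
 (TT.l (Ty.srel [nat_lit 5, nat_lit 0, nat_lit 5, nat_lit 6, nat_lit 0, nat_lit 6, nat_lit 5, nat_lit 0, nat_lit 5, nat_lit 0])))
 (TT.l (Ty.rel3 (nat_lit 2) (nat_lit 6) (nat_lit 2)))))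
 (TT.n (TT.n (TT.n (TT.l (Ty.srel [nat_lit 6]))
 (TT.l (Ty.srel [nat_lit 5, nat_lit 1, nat_lit 5, nat_lit 6, nat_lit 1, nat_lit 5, nat_lit 1, nat_lit 5, nat_lit 6, nat_lit 1])))
 (TT.l (Ty.rel5 (nat_lit 7) (nat_lit 6) (nat_lit 7) (nat_lit 6) (nat_lit 7))))
 (TT.n (TT.n (TT.l (Ty.srel [nat_lit 7, nat_lit 6, nat_lit 7, nat_lit 6, nat_lit 7]))
 (TT.l (Ty.relL (nat_lit 1) [nat_lit 6, nat_lit 5, nat_lit 1, nat_lit 5, nat_lit 6, nat_lit 1, nat_lit 5, nat_lit 1, nat_lit 5])))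
 (TT.l (Ty.srel [nat_lit 5, nat_lit 0, nat_lit 5, nat_lit 0, nat_lit 6, nat_lit 5, nat_lit 0, nat_lit 5, nat_lit 6, nat_lit 0]))))))
noncomputable def ty7 : TT := (TT.n (TT.n (TT.n (TT.n (TT.n (TT.l (Ty.relL (nat_lit 5) [nat_lit 4, nat_lit 5, nat_lit 4, nat_lit 5, nat_lit 4, nat_lit 5, nat_lit 4, nat_lit 2]))
 (TT.l (Ty.srel [nat_lit 6, nat_lit 7, nat_lit 6, nat_lit 7, nat_lit 6])))
 (TT.l (Ty.srel [nat_lit 5, nat_lit 7, nat_lit 5])))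
 (TT.n (TT.n (TT.l (Ty.rel3 (nat_lit 2) (nat_lit 7) (nat_lit 2)))
 (TT.l (Ty.srel [nat_lit 5, nat_lit 4, nat_lit 5, nat_lit 4, nat_lit 5, nat_lit 4, nat_lit 5, nat_lit 4, nat_lit 2])))
 (TT.l (Ty.srel [nat_lit 2, nat_lit 0, nat_lit 0]))))
 (TT.n (TT.n (TT.n (TT.l (Ty.rel1 (nat_lit 7)))
 (TT.l (Ty.relL (nat_lit 2) [nat_lit 4, nat_lit 5, nat_lit 4, nat_lit 5, nat_lit 4, nat_lit 5, nat_lit 4, nat_lit 5])))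
 (TT.l (Ty.rel3 (nat_lit 2) (nat_lit 0) (nat_lit 0))))
 (TT.n (TT.l (Ty.rel3 (nat_lit 4) (nat_lit 7) (nat_lit 4)))
 (TT.l (Ty.rel3 (nat_lit 5) (nat_lit 7) (nat_lit 5))))))
 (TT.n (TT.n (TT.n (TT.n (TT.l (Ty.srel [nat_lit 7]))
 (TT.l (Ty.srel [nat_lit 2, nat_lit 7, nat_lit 2])))
 (TT.l (Ty.srel [nat_lit 4, nat_lit 7, nat_lit 4])))
 (TT.n (TT.n (TT.l (Ty.rel3 (nat_lit 1) (nat_lit 1) (nat_lit 2)))
 (TT.l (Ty.skip)))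
 (TT.l (Ty.srel [nat_lit 1, nat_lit 1, nat_lit 2]))))
 (TT.n (TT.n (TT.n (TT.l (Ty.dfn))
 (TT.l (Ty.srel [nat_lit 2, nat_lit 4, nat_lit 5, nat_lit 4, nat_lit 5, nat_lit 4, nat_lit 5, nat_lit 4, nat_lit 5])))
 (TT.l (Ty.rel3 (nat_lit 3) (nat_lit 7) (nat_lit 3))))
 (TT.n (TT.l (Ty.srel [nat_lit 3, nat_lit 7, nat_lit 3]))
 (TT.l (Ty.rel5 (nat_lit 6) (nat_lit 7) (nat_lit 6) (nat_lit 7) (nat_lit 6)))))))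
noncomputable def ty8 : TT := (TT.n (TT.n (TT.n (TT.n (TT.n (TT.n (TT.n (TT.n (TT.l (Ty.skip))
 (TT.l (Ty.srel [nat_lit 0, nat_lit 3, nat_lit 4, nat_lit 0, nat_lit 4, nat_lit 0, nat_lit 3, nat_lit 4, nat_lit 0, nat_lit 4, nat_lit 3])))
 (TT.n (TT.l (Ty.srel [nat_lit 1, nat_lit 4, nat_lit 1, nat_lit 4, nat_lit 3, nat_lit 1, nat_lit 3, nat_lit 4, nat_lit 1, nat_lit 4, nat_lit 3]))
 (TT.l (Ty.srel [nat_lit 4, nat_lit 1, nat_lit 4, nat_lit 5, nat_lit 4, nat_lit 0, nat_lit 4, nat_lit 0, nat_lit 5, nat_lit 1]))))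
 (TT.n (TT.n (TT.l (Ty.srel [nat_lit 0, nat_lit 4, nat_lit 3, nat_lit 0, nat_lit 3, nat_lit 4, nat_lit 0, nat_lit 4, nat_lit 0, nat_lit 3, nat_lit 4]))
 (TT.l (Ty.srel [nat_lit 6, nat_lit 7, nat_lit 6, nat_lit 7, nat_lit 6, nat_lit 7])))
 (TT.n (TT.l (Ty.srel [nat_lit 5, nat_lit 0, nat_lit 4, nat_lit 1, nat_lit 5, nat_lit 1, nat_lit 5, nat_lit 4, nat_lit 5, nat_lit 0]))
 (TT.l (Ty.relL (nat_lit 5) [nat_lit 4, nat_lit 3, nat_lit 1, nat_lit 5, nat_lit 4, nat_lit 3, nat_lit 1, nat_lit 5, nat_lit 4, nat_lit 3, nat_lit 1, nat_lit 5, nat_lit 4, nat_lit 3, nat_lit 1, nat_lit 5, nat_lit 4, nat_lit 3, nat_lit 1])))))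
 (TT.n (TT.n (TT.n (TT.l (Ty.relL (nat_lit 6) [nat_lit 5, nat_lit 0, nat_lit 5, nat_lit 0, nat_lit 6, nat_lit 5, nat_lit 0, nat_lit 5, nat_lit 6, nat_lit 0]))
 (TT.l (Ty.relL (nat_lit 6) [nat_lit 0, nat_lit 6, nat_lit 5, nat_lit 0, nat_lit 5, nat_lit 0, nat_lit 6, nat_lit 5, nat_lit 0, nat_lit 5])))
 (TT.n (TT.l (Ty.srel [nat_lit 4, nat_lit 1, nat_lit 5, nat_lit 1, nat_lit 5, nat_lit 4, nat_lit 5, nat_lit 0, nat_lit 5, nat_lit 0]))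
 (TT.l (Ty.relL (nat_lit 0) [nat_lit 5, nat_lit 6, nat_lit 0, nat_lit 6, nat_lit 5, nat_lit 0, nat_lit 5, nat_lit 0, nat_lit 6, nat_lit 5]))))
 (TT.n (TT.n (TT.l (Ty.srel [nat_lit 6, nat_lit 5, nat_lit 1, nat_lit 5, nat_lit 6, nat_lit 1, nat_lit 5, nat_lit 1, nat_lit 5, nat_lit 6, nat_lit 1]))
 (TT.l (Ty.relL (nat_lit 5) [nat_lit 4, nat_lit 0, nat_lit 4, nat_lit 0, nat_lit 5, nat_lit 1, nat_lit 4, nat_lit 1, nat_lit 4])))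
 (TT.n (TT.l (Ty.srel [nat_lit 5, nat_lit 4, nat_lit 5, nat_lit 0, nat_lit 5, nat_lit 0, nat_lit 4, nat_lit 1, nat_lit 5, nat_lit 1]))
 (TT.l (Ty.srel [nat_lit 4, nat_lit 5, nat_lit 4, nat_lit 5, nat_lit 4, nat_lit 5, nat_lit 4, nat_lit 5, nat_lit 4, nat_lit 5, nat_lit 4, nat_lit 5, nat_lit 4, nat_lit 5, nat_lit 4, nat_lit 5]))))))
 (TT.n (TT.n (TT.n (TT.n (TT.l (Ty.relL (nat_lit 1) [nat_lit 5, nat_lit 1, nat_lit 5, nat_lit 4, nat_lit 5, nat_lit 0, nat_lit 5, nat_lit 0, nat_lit 4]))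
 (TT.l (Ty.relL (nat_lit 3) [nat_lit 6, nat_lit 3, nat_lit 6])))
 (TT.n (TT.l (Ty.relL (nat_lit 6) [nat_lit 1, nat_lit 6, nat_lit 5, nat_lit 1, nat_lit 5, nat_lit 6, nat_lit 1, nat_lit 5, nat_lit 1, nat_lit 5]))
 (TT.l (Ty.srel [nat_lit 3, nat_lit 1, nat_lit 3, nat_lit 4, nat_lit 1, nat_lit 4, nat_lit 3, nat_lit 1, nat_lit 4, nat_lit 1, nat_lit 4]))))
 (TT.n (TT.n (TT.l (Ty.srel [nat_lit 1, nat_lit 5, nat_lit 6, nat_lit 1, nat_lit 5, nat_lit 1, nat_lit 5, nat_lit 6, nat_lit 1, nat_lit 6, nat_lit 5]))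
 (TT.l (Ty.srel [nat_lit 4, nat_lit 0, nat_lit 4, nat_lit 3, nat_lit 0, nat_lit 3, nat_lit 4, nat_lit 0, nat_lit 4, nat_lit 0, nat_lit 3])))
 (TT.n (TT.l (Ty.relL (nat_lit 1) [nat_lit 1, nat_lit 2, nat_lit 7]))
 (TT.l (Ty.srel [nat_lit 5, nat_lit 4, nat_lit 5, nat_lit 4, nat_lit 5, nat_lit 4, nat_lit 2, nat_lit 7, nat_lit 5, nat_lit 4])))))
 (TT.n (TT.n (TT.n (TT.l (Ty.srel [nat_lit 2, nat_lit 6, nat_lit 2, nat_lit 6]))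
 (TT.l (Ty.srel [nat_lit 0, nat_lit 6, nat_lit 5, nat_lit 0, nat_lit 5, nat_lit 0, nat_lit 6, nat_lit 5, nat_lit 0, nat_lit 5, nat_lit 6])))
 (TT.n (TT.l (Ty.relL (nat_lit 5) [nat_lit 3, nat_lit 5, nat_lit 3]))
 (TT.l (Ty.relL (nat_lit 5) [nat_lit 4, nat_lit 2, nat_lit 7, nat_lit 5, nat_lit 4, nat_lit 5, nat_lit 4, nat_lit 5, nat_lit 4]))))
 (TT.n (TT.n (TT.l (Ty.relL (nat_lit 5) [nat_lit 1, nat_lit 5, nat_lit 6, nat_lit 1, nat_lit 6, nat_lit 5, nat_lit 1, nat_lit 5, nat_lit 6, nat_lit 1]))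
 (TT.l (Ty.srel [nat_lit 6, nat_lit 5, nat_lit 6, nat_lit 5, nat_lit 6, nat_lit 5])))
 (TT.n (TT.l (Ty.relL (nat_lit 6) [nat_lit 3, nat_lit 6, nat_lit 3]))
 (TT.l (Ty.srel [nat_lit 2, nat_lit 7, nat_lit 5, nat_lit 4, nat_lit 5, nat_lit 4, nat_lit 5, nat_lit 4, nat_lit 5, nat_lit 4])))))))
 (TT.n (TT.n (TT.n (TT.n (TT.n (TT.l (Ty.srel [nat_lit 2, nat_lit 3, nat_lit 2, nat_lit 3, nat_lit 2, nat_lit 3]))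
 (TT.l (Ty.srel [nat_lit 4, nat_lit 0, nat_lit 3, nat_lit 4, nat_lit 0, nat_lit 4, nat_lit 3, nat_lit 0, nat_lit 3, nat_lit 4, nat_lit 0])))
 (TT.n (TT.l (Ty.srel [nat_lit 6, nat_lit 5, nat_lit 0, nat_lit 5, nat_lit 6, nat_lit 0, nat_lit 6, nat_lit 5, nat_lit 0, nat_lit 5, nat_lit 0]))
 (TT.l (Ty.srel [nat_lit 4, nat_lit 0, nat_lit 4, nat_lit 0, nat_lit 5, nat_lit 1, nat_lit 4, nat_lit 1, nat_lit 4, nat_lit 5]))))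
 (TT.n (TT.n (TT.l (Ty.srel [nat_lit 4, nat_lit 2, nat_lit 4, nat_lit 2]))
 (TT.l (Ty.relL (nat_lit 1) [nat_lit 5, nat_lit 6, nat_lit 1, nat_lit 5, nat_lit 1, nat_lit 5, nat_lit 6, nat_lit 1, nat_lit 6, nat_lit 5])))
 (TT.n (TT.l (Ty.relL (nat_lit 7) [nat_lit 2, nat_lit 7, nat_lit 2]))
 (TT.l (Ty.relL (nat_lit 5) [nat_lit 4, nat_lit 5, nat_lit 4, nat_lit 5, nat_lit 4, nat_lit 2, nat_lit 7, nat_lit 5, nat_lit 4])))))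
 (TT.n (TT.n (TT.n (TT.l (Ty.srel [nat_lit 1, nat_lit 4, nat_lit 5, nat_lit 4, nat_lit 0, nat_lit 4, nat_lit 0, nat_lit 5, nat_lit 1, nat_lit 4]))
 (TT.l (Ty.relL (nat_lit 0) [nat_lit 5, nat_lit 0, nat_lit 4, nat_lit 1, nat_lit 5, nat_lit 1, nat_lit 5, nat_lit 4, nat_lit 5])))
 (TT.n (TT.l (Ty.srel [nat_lit 4, nat_lit 5, nat_lit 4, nat_lit 0, nat_lit 4, nat_lit 0, nat_lit 5, nat_lit 1, nat_lit 4, nat_lit 1]))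
 (TT.l (Ty.srel [nat_lit 5, nat_lit 7, nat_lit 2, nat_lit 4, nat_lit 5, nat_lit 4, nat_lit 5, nat_lit 4, nat_lit 5, nat_lit 4]))))
 (TT.n (TT.n (TT.l (Ty.relL (nat_lit 5) [nat_lit 1, nat_lit 5, nat_lit 4, nat_lit 5, nat_lit 0, nat_lit 5, nat_lit 0, nat_lit 4, nat_lit 1]))
 (TT.l (Ty.relL (nat_lit 1) [nat_lit 6, nat_lit 5, nat_lit 1, nat_lit 5, nat_lit 6, nat_lit 1, nat_lit 5, nat_lit 1, nat_lit 5, nat_lit 6])))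
 (TT.n (TT.l (Ty.srel [nat_lit 6, nat_lit 5, nat_lit 0, nat_lit 5, nat_lit 0, nat_lit 6, nat_lit 5, nat_lit 0, nat_lit 5, nat_lit 6, nat_lit 0]))
 (TT.l (Ty.srel [nat_lit 4, nat_lit 5, nat_lit 4, nat_lit 2, nat_lit 7, nat_lit 5, nat_lit 4, nat_lit 5, nat_lit 4, nat_lit 5]))))))
 (TT.n (TT.n (TT.n (TT.n (TT.l (Ty.relL (nat_lit 4) [nat_lit 1, nat_lit 4, nat_lit 3, nat_lit 1, nat_lit 3, nat_lit 4, nat_lit 1, nat_lit 4, nat_lit 3, nat_lit 1]))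
 (TT.l (Ty.srel [nat_lit 4, nat_lit 1, nat_lit 4, nat_lit 3, nat_lit 1, nat_lit 4, nat_lit 1, nat_lit 4, nat_lit 3, nat_lit 1, nat_lit 3])))
 (TT.n (TT.l (Ty.srel [nat_lit 1, nat_lit 5, nat_lit 1, nat_lit 5, nat_lit 4, nat_lit 5, nat_lit 0, nat_lit 5, nat_lit 0, nat_lit 4]))
 (TT.l (Ty.relL (nat_lit 0) [nat_lit 4, nat_lit 0, nat_lit 3, nat_lit 4, nat_lit 0, nat_lit 4, nat_lit 3, nat_lit 0, nat_lit 3, nat_lit 4]))))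
 (TT.n (TT.n (TT.l (Ty.srel [nat_lit 3, nat_lit 4, nat_lit 0, nat_lit 4, nat_lit 3, nat_lit 0, nat_lit 3, nat_lit 4, nat_lit 0, nat_lit 4, nat_lit 0]))
 (TT.l (Ty.relL (nat_lit 2) [nat_lit 6, nat_lit 2, nat_lit 6])))
 (TT.n (TT.l (Ty.srel [nat_lit 3, nat_lit 4, nat_lit 1, nat_lit 4, nat_lit 3, nat_lit 1, nat_lit 4, nat_lit 1, nat_lit 4, nat_lit 3, nat_lit 1]))
 (TT.l (Ty.srel [nat_lit 2, nat_lit 4, nat_lit 5, nat_lit 4, nat_lit 5, nat_lit 4, nat_lit 5, nat_lit 4, nat_lit 5, nat_lit 7])))))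
 (TT.n (TT.n (TT.n (TT.l (Ty.srel [nat_lit 3, nat_lit 6, nat_lit 3, nat_lit 6]))
 (TT.l (Ty.relL (nat_lit 5) [nat_lit 4, nat_lit 5, nat_lit 0, nat_lit 5, nat_lit 0, nat_lit 4, nat_lit 1, nat_lit 5, nat_lit 1])))
 (TT.n (TT.l (Ty.relL (nat_lit 3) [nat_lit 4, nat_lit 0, nat_lit 4, nat_lit 0, nat_lit 3, nat_lit 4, nat_lit 0, nat_lit 4, nat_lit 3, nat_lit 0]))
 (TT.l (Ty.srel [nat_lit 4, nat_lit 3, nat_lit 1, nat_lit 5, nat_lit 4, nat_lit 3, nat_lit 1, nat_lit 5, nat_lit 4, nat_lit 3, nat_lit 1, nat_lit 5, nat_lit 4, nat_lit 3, nat_lit 1, nat_lit 5, nat_lit 4, nat_lit 3, nat_lit 1, nat_lit 5]))))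
 (TT.n (TT.n (TT.l (Ty.relL (nat_lit 0) [nat_lit 6, nat_lit 5, nat_lit 0, nat_lit 5, nat_lit 0, nat_lit 6, nat_lit 5, nat_lit 0, nat_lit 5, nat_lit 6]))
 (TT.l (Ty.srel [nat_lit 5, nat_lit 4, nat_lit 3, nat_lit 1, nat_lit 5, nat_lit 4, nat_lit 3, nat_lit 1, nat_lit 5, nat_lit 4, nat_lit 3, nat_lit 1, nat_lit 5, nat_lit 4, nat_lit 3, nat_lit 1, nat_lit 5, nat_lit 4, nat_lit 3, nat_lit 1])))
 (TT.n (TT.l (Ty.srel [nat_lit 6, nat_lit 4, nat_lit 6, nat_lit 4]))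
 (TT.l (Ty.srel [nat_lit 4, nat_lit 5, nat_lit 4, nat_lit 5, nat_lit 4, nat_lit 5, nat_lit 4, nat_lit 5, nat_lit 7, nat_lit 2]))))))))
 (TT.n (TT.n (TT.n (TT.n (TT.n (TT.n (TT.l (Ty.srel [nat_lit 7, nat_lit 5, nat_lit 7, nat_lit 5]))
 (TT.l (Ty.srel [nat_lit 0, nat_lit 5, nat_lit 1, nat_lit 4, nat_lit 1, nat_lit 4, nat_lit 5, nat_lit 4, nat_lit 0, nat_lit 4])))
 (TT.n (TT.l (Ty.relL (nat_lit 5) [nat_lit 1, nat_lit 4, nat_lit 1, nat_lit 4, nat_lit 5, nat_lit 4, nat_lit 0, nat_lit 4, nat_lit 0]))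
 (TT.l (Ty.relL (nat_lit 1) [nat_lit 4, nat_lit 5, nat_lit 4, nat_lit 0, nat_lit 4, nat_lit 0, nat_lit 5, nat_lit 1, nat_lit 4]))))
 (TT.n (TT.n (TT.l (Ty.relL (nat_lit 6) [nat_lit 4, nat_lit 6, nat_lit 4]))
 (TT.l (Ty.srel [nat_lit 0, nat_lit 3, nat_lit 4, nat_lit 0, nat_lit 4, nat_lit 3, nat_lit 0, nat_lit 3, nat_lit 4, nat_lit 0, nat_lit 4])))
 (TT.n (TT.l (Ty.relL (nat_lit 4) [nat_lit 3, nat_lit 1, nat_lit 3, nat_lit 4, nat_lit 1, nat_lit 4, nat_lit 3, nat_lit 1, nat_lit 4, nat_lit 1]))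
 (TT.l (Ty.relL (nat_lit 5) [nat_lit 4, nat_lit 5, nat_lit 4, nat_lit 5, nat_lit 7, nat_lit 2, nat_lit 4, nat_lit 5, nat_lit 4])))))
 (TT.n (TT.n (TT.n (TT.l (Ty.srel [nat_lit 5, nat_lit 1, nat_lit 5, nat_lit 4, nat_lit 5, nat_lit 0, nat_lit 5, nat_lit 0, nat_lit 4, nat_lit 1]))
 (TT.l (Ty.srel [nat_lit 7, nat_lit 2, nat_lit 0, nat_lit 0])))
 (TT.n (TT.l (Ty.relL (nat_lit 5) [nat_lit 0, nat_lit 5, nat_lit 6, nat_lit 0, nat_lit 6, nat_lit 5, nat_lit 0, nat_lit 5, nat_lit 0, nat_lit 6]))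
 (TT.l (Ty.relL (nat_lit 5) [nat_lit 4, nat_lit 5, nat_lit 4, nat_lit 2, nat_lit 7, nat_lit 5, nat_lit 4, nat_lit 5, nat_lit 4]))))
 (TT.n (TT.n (TT.l (Ty.srel [nat_lit 3, nat_lit 7, nat_lit 3, nat_lit 7]))
 (TT.l (Ty.srel [nat_lit 5, nat_lit 0, nat_lit 5, nat_lit 6, nat_lit 0, nat_lit 6, nat_lit 5, nat_lit 0, nat_lit 5, nat_lit 0, nat_lit 6])))
 (TT.n (TT.l (Ty.relL (nat_lit 4) [nat_lit 7, nat_lit 4, nat_lit 7]))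
 (TT.l (Ty.srel [nat_lit 4, nat_lit 5, nat_lit 4, nat_lit 5, nat_lit 4, nat_lit 5, nat_lit 7, nat_lit 2, nat_lit 4, nat_lit 5]))))))
 (TT.n (TT.n (TT.n (TT.n (TT.l (Ty.relL (nat_lit 2) [nat_lit 0, nat_lit 0, nat_lit 7]))
 (TT.l (Ty.relL (nat_lit 1) [nat_lit 4, nat_lit 3, nat_lit 1, nat_lit 3, nat_lit 4, nat_lit 1, nat_lit 4, nat_lit 3, nat_lit 1, nat_lit 4])))
 (TT.n (TT.l (Ty.srel [nat_lit 1, nat_lit 4, nat_lit 3, nat_lit 1, nat_lit 4, nat_lit 1, nat_lit 4, nat_lit 3, nat_lit 1, nat_lit 3, nat_lit 4]))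
 (TT.l (Ty.srel [nat_lit 0, nat_lit 3, nat_lit 4, nat_lit 5, nat_lit 0, nat_lit 3, nat_lit 4, nat_lit 5, nat_lit 0, nat_lit 3, nat_lit 4, nat_lit 5, nat_lit 0, nat_lit 3, nat_lit 4, nat_lit 5, nat_lit 0, nat_lit 3, nat_lit 4, nat_lit 5]))))
 (TT.n (TT.n (TT.l (Ty.relL (nat_lit 1) [nat_lit 5, nat_lit 4, nat_lit 5, nat_lit 0, nat_lit 5, nat_lit 0, nat_lit 4, nat_lit 1, nat_lit 5]))
 (TT.l (Ty.relL (nat_lit 5) [nat_lit 1, nat_lit 5, nat_lit 6, nat_lit 1, nat_lit 5, nat_lit 1, nat_lit 5, nat_lit 6, nat_lit 1, nat_lit 6])))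
 (TT.n (TT.l (Ty.relL (nat_lit 4) [nat_lit 3, nat_lit 0, nat_lit 3, nat_lit 4, nat_lit 0, nat_lit 4, nat_lit 0, nat_lit 3, nat_lit 4, nat_lit 0]))
 (TT.l (Ty.srel [nat_lit 4, nat_lit 5, nat_lit 4, nat_lit 5, nat_lit 7, nat_lit 2, nat_lit 4, nat_lit 5, nat_lit 4, nat_lit 5])))))
 (TT.n (TT.n (TT.n (TT.l (Ty.relL (nat_lit 5) [nat_lit 6, nat_lit 1, nat_lit 5, nat_lit 1, nat_lit 5, nat_lit 6, nat_lit 1, nat_lit 6, nat_lit 5, nat_lit 1]))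
 (TT.l (Ty.relL (nat_lit 3) [nat_lit 1, nat_lit 3, nat_lit 4, nat_lit 1, nat_lit 4, nat_lit 3, nat_lit 1, nat_lit 4, nat_lit 1, nat_lit 4])))
 (TT.n (TT.l (Ty.relL (nat_lit 4) [nat_lit 0, nat_lit 5, nat_lit 1, nat_lit 4, nat_lit 1, nat_lit 4, nat_lit 5, nat_lit 4, nat_lit 0]))
 (TT.l (Ty.relL (nat_lit 2) [nat_lit 7, nat_lit 5, nat_lit 4, nat_lit 5, nat_lit 4, nat_lit 5, nat_lit 4, nat_lit 5, nat_lit 4]))))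
 (TT.n (TT.n (TT.l (Ty.relL (nat_lit 2) [nat_lit 7, nat_lit 1, nat_lit 1]))
 (TT.l (Ty.relL (nat_lit 3) [nat_lit 0, nat_lit 3, nat_lit 4, nat_lit 0, nat_lit 4, nat_lit 0, nat_lit 3, nat_lit 4, nat_lit 0, nat_lit 4])))
 (TT.n (TT.l (Ty.relL (nat_lit 1) [nat_lit 2, nat_lit 7, nat_lit 1]))
 (TT.l (Ty.srel [nat_lit 7, nat_lit 5, nat_lit 4, nat_lit 5, nat_lit 4, nat_lit 5, nat_lit 4, nat_lit 5, nat_lit 4, nat_lit 2])))))))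
 (TT.n (TT.n (TT.n (TT.n (TT.n (TT.l (Ty.relL (nat_lit 5) [nat_lit 7, nat_lit 5, nat_lit 7]))
 (TT.l (Ty.srel [nat_lit 0, nat_lit 4, nat_lit 0, nat_lit 3, nat_lit 4, nat_lit 0, nat_lit 4, nat_lit 3, nat_lit 0, nat_lit 3, nat_lit 4])))
 (TT.n (TT.l (Ty.relL (nat_lit 5) [nat_lit 0, nat_lit 6, nat_lit 5, nat_lit 0, nat_lit 5, nat_lit 6, nat_lit 0, nat_lit 6, nat_lit 5, nat_lit 0]))
 (TT.l (Ty.srel [nat_lit 3, nat_lit 4, nat_lit 5, nat_lit 0, nat_lit 3, nat_lit 4, nat_lit 5, nat_lit 0, nat_lit 3, nat_lit 4, nat_lit 5, nat_lit 0, nat_lit 3, nat_lit 4, nat_lit 5, nat_lit 0, nat_lit 3, nat_lit 4, nat_lit 5, nat_lit 0]))))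
 (TT.n (TT.n (TT.l (Ty.srel [nat_lit 5, nat_lit 7, nat_lit 5, nat_lit 7]))
 (TT.l (Ty.srel [nat_lit 1, nat_lit 4, nat_lit 1, nat_lit 4, nat_lit 5, nat_lit 4, nat_lit 0, nat_lit 4, nat_lit 0, nat_lit 5])))
 (TT.n (TT.l (Ty.relL (nat_lit 4) [nat_lit 0, nat_lit 4, nat_lit 0, nat_lit 5, nat_lit 1, nat_lit 4, nat_lit 1, nat_lit 4, nat_lit 5]))
 (TT.l (Ty.srel [nat_lit 4, nat_lit 5, nat_lit 0, nat_lit 3, nat_lit 4, nat_lit 5, nat_lit 0, nat_lit 3, nat_lit 4, nat_lit 5, nat_lit 0, nat_lit 3, nat_lit 4, nat_lit 5, nat_lit 0, nat_lit 3, nat_lit 4, nat_lit 5, nat_lit 0, nat_lit 3])))))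
 (TT.n (TT.n (TT.n (TT.l (Ty.srel [nat_lit 5, nat_lit 2, nat_lit 5, nat_lit 2]))
 (TT.l (Ty.relL (nat_lit 0) [nat_lit 4, nat_lit 3, nat_lit 0, nat_lit 3, nat_lit 4, nat_lit 0, nat_lit 4, nat_lit 0, nat_lit 3, nat_lit 4])))
 (TT.n (TT.l (Ty.relL (nat_lit 4) [nat_lit 5, nat_lit 4, nat_lit 0, nat_lit 4, nat_lit 0, nat_lit 5, nat_lit 1, nat_lit 4, nat_lit 1]))
 (TT.l (Ty.srel [nat_lit 4, nat_lit 2, nat_lit 7, nat_lit 5, nat_lit 4, nat_lit 5, nat_lit 4, nat_lit 5, nat_lit 4, nat_lit 5]))))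
 (TT.n (TT.n (TT.l (Ty.relL (nat_lit 4) [nat_lit 0, nat_lit 3, nat_lit 4, nat_lit 0, nat_lit 4, nat_lit 3, nat_lit 0, nat_lit 3, nat_lit 4, nat_lit 0]))
 (TT.l (Ty.relL (nat_lit 5) [nat_lit 0, nat_lit 5, nat_lit 0, nat_lit 6, nat_lit 5, nat_lit 0, nat_lit 5, nat_lit 6, nat_lit 0, nat_lit 6])))
 (TT.n (TT.l (Ty.relL (nat_lit 5) [nat_lit 6, nat_lit 1, nat_lit 6, nat_lit 5, nat_lit 1, nat_lit 5, nat_lit 6, nat_lit 1, nat_lit 5, nat_lit 1]))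
 (TT.l (Ty.relL (nat_lit 7) [nat_lit 2, nat_lit 4, nat_lit 5, nat_lit 4, nat_lit 5, nat_lit 4, nat_lit 5, nat_lit 4, nat_lit 5]))))))
 (TT.n (TT.n (TT.n (TT.n (TT.l (Ty.relL (nat_lit 0) [nat_lit 3, nat_lit 4, nat_lit 0, nat_lit 4, nat_lit 0, nat_lit 3, nat_lit 4, nat_lit 0, nat_lit 4, nat_lit 3]))
 (TT.l (Ty.relL (nat_lit 1) [nat_lit 5, nat_lit 1, nat_lit 5, nat_lit 6, nat_lit 1, nat_lit 6, nat_lit 5, nat_lit 1, nat_lit 5, nat_lit 6])))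
 (TT.n (TT.l (Ty.relL (nat_lit 0) [nat_lit 4, nat_lit 0, nat_lit 5, nat_lit 1, nat_lit 4, nat_lit 1, nat_lit 4, nat_lit 5, nat_lit 4]))
 (TT.l (Ty.srel [nat_lit 5, nat_lit 0, nat_lit 3, nat_lit 4, nat_lit 5, nat_lit 0, nat_lit 3, nat_lit 4, nat_lit 5, nat_lit 0, nat_lit 3, nat_lit 4, nat_lit 5, nat_lit 0, nat_lit 3, nat_lit 4, nat_lit 5, nat_lit 0, nat_lit 3, nat_lit 4]))))
 (TT.n (TT.n (TT.l (Ty.srel [nat_lit 5, nat_lit 1, nat_lit 5, nat_lit 6, nat_lit 1, nat_lit 5, nat_lit 1, nat_lit 5, nat_lit 6, nat_lit 1, nat_lit 6]))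
 (TT.l (Ty.srel [nat_lit 6, nat_lit 0, nat_lit 6, nat_lit 5, nat_lit 0, nat_lit 5, nat_lit 0, nat_lit 6, nat_lit 5, nat_lit 0, nat_lit 5])))
 (TT.n (TT.l (Ty.srel [nat_lit 1, nat_lit 6, nat_lit 5, nat_lit 1, nat_lit 5, nat_lit 6, nat_lit 1, nat_lit 5, nat_lit 1, nat_lit 5, nat_lit 6]))
 (TT.l (Ty.srel [nat_lit 5, nat_lit 4, nat_lit 5, nat_lit 4, nat_lit 5, nat_lit 4, nat_lit 5, nat_lit 4, nat_lit 5, nat_lit 4, nat_lit 5, nat_lit 4, nat_lit 5, nat_lit 4, nat_lit 5, nat_lit 4])))))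
 (TT.n (TT.n (TT.n (TT.l (Ty.relL (nat_lit 3) [nat_lit 7, nat_lit 3, nat_lit 7]))
 (TT.l (Ty.srel [nat_lit 5, nat_lit 1, nat_lit 4, nat_lit 1, nat_lit 4, nat_lit 5, nat_lit 4, nat_lit 0, nat_lit 4, nat_lit 0])))
 (TT.n (TT.l (Ty.relL (nat_lit 2) [nat_lit 7, nat_lit 2, nat_lit 7]))
 (TT.l (Ty.srel [nat_lit 4, nat_lit 5, nat_lit 4, nat_lit 5, nat_lit 4, nat_lit 2, nat_lit 7, nat_lit 5, nat_lit 4, nat_lit 5]))))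
 (TT.n (TT.n (TT.l (Ty.srel [nat_lit 7, nat_lit 4, nat_lit 7, nat_lit 4]))
 (TT.l (Ty.srel [nat_lit 5, nat_lit 6, nat_lit 5, nat_lit 6, nat_lit 5, nat_lit 6])))
 (TT.n (TT.l (Ty.srel [nat_lit 1, nat_lit 1, nat_lit 2, nat_lit 7]))
 (TT.l (Ty.relL (nat_lit 4) [nat_lit 5, nat_lit 4, nat_lit 5, nat_lit 4, nat_lit 5, nat_lit 7, nat_lit 2, nat_lit 4, nat_lit 5])))))))))
 (TT.n (TT.n (TT.n (TT.n (TT.n (TT.n (TT.n (TT.l (Ty.relL (nat_lit 1) [nat_lit 4, nat_lit 1, nat_lit 4, nat_lit 5, nat_lit 4, nat_lit 0, nat_lit 4, nat_lit 0, nat_lit 5]))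
 (TT.l (Ty.srel [nat_lit 7, nat_lit 2, nat_lit 7, nat_lit 2])))
 (TT.n (TT.l (Ty.relL (nat_lit 3) [nat_lit 4, nat_lit 0, nat_lit 4, nat_lit 3, nat_lit 0, nat_lit 3, nat_lit 4, nat_lit 0, nat_lit 4, nat_lit 0]))
 (TT.l (Ty.relL (nat_lit 6) [nat_lit 1, nat_lit 5, nat_lit 1, nat_lit 5, nat_lit 6, nat_lit 1, nat_lit 6, nat_lit 5, nat_lit 1, nat_lit 5]))))
 (TT.n (TT.n (TT.l (Ty.srel [nat_lit 0, nat_lit 0, nat_lit 7, nat_lit 2]))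
 (TT.l (Ty.srel [nat_lit 7, nat_lit 1, nat_lit 1, nat_lit 2])))
 (TT.n (TT.l (Ty.relL (nat_lit 4) [nat_lit 5, nat_lit 0, nat_lit 5, nat_lit 0, nat_lit 4, nat_lit 1, nat_lit 5, nat_lit 1, nat_lit 5]))
 (TT.l (Ty.relL (nat_lit 5) [nat_lit 7, nat_lit 2, nat_lit 4, nat_lit 5, nat_lit 4, nat_lit 5, nat_lit 4, nat_lit 5, nat_lit 4])))))
 (TT.n (TT.n (TT.n (TT.l (Ty.srel [nat_lit 6, nat_lit 1, nat_lit 6, nat_lit 5, nat_lit 1, nat_lit 5, nat_lit 6, nat_lit 1, nat_lit 5, nat_lit 1, nat_lit 5]))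
 (TT.l (Ty.relL (nat_lit 4) [nat_lit 3, nat_lit 1, nat_lit 5, nat_lit 4, nat_lit 3, nat_lit 1, nat_lit 5, nat_lit 4, nat_lit 3, nat_lit 1, nat_lit 5, nat_lit 4, nat_lit 3, nat_lit 1, nat_lit 5, nat_lit 4, nat_lit 3, nat_lit 1, nat_lit 5])))
 (TT.n (TT.l (Ty.srel [nat_lit 4, nat_lit 5, nat_lit 0, nat_lit 5, nat_lit 0, nat_lit 4, nat_lit 1, nat_lit 5, nat_lit 1, nat_lit 5]))
 (TT.l (Ty.relL (nat_lit 4) [nat_lit 3, nat_lit 4, nat_lit 3, nat_lit 4, nat_lit 3]))))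
 (TT.n (TT.n (TT.l (Ty.srel [nat_lit 3, nat_lit 5, nat_lit 3, nat_lit 5]))
 (TT.l (Ty.relL (nat_lit 1) [nat_lit 5, nat_lit 6, nat_lit 1, nat_lit 6, nat_lit 5, nat_lit 1, nat_lit 5, nat_lit 6, nat_lit 1, nat_lit 5])))
 (TT.n (TT.l (Ty.srel [nat_lit 3, nat_lit 0, nat_lit 3, nat_lit 4, nat_lit 0, nat_lit 4, nat_lit 0, nat_lit 3, nat_lit 4, nat_lit 0, nat_lit 4]))
 (TT.l (Ty.srel [nat_lit 5, nat_lit 4, nat_lit 5, nat_lit 4, nat_lit 5, nat_lit 4, nat_lit 5, nat_lit 4, nat_lit 2, nat_lit 7]))))))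
 (TT.n (TT.n (TT.n (TT.n (TT.l (Ty.relL (nat_lit 0) [nat_lit 6, nat_lit 5, nat_lit 0, nat_lit 5, nat_lit 6, nat_lit 0, nat_lit 6, nat_lit 5, nat_lit 0, nat_lit 5]))
 (TT.l (Ty.srel [nat_lit 3, nat_lit 1, nat_lit 4, nat_lit 1, nat_lit 4, nat_lit 3, nat_lit 1, nat_lit 3, nat_lit 4, nat_lit 1, nat_lit 4])))
 (TT.n (TT.l (Ty.srel [nat_lit 0, nat_lit 7, nat_lit 2, nat_lit 0]))
 (TT.l (Ty.relL (nat_lit 6) [nat_lit 5, nat_lit 6, nat_lit 5, nat_lit 6, nat_lit 5]))))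
 (TT.n (TT.n (TT.l (Ty.srel [nat_lit 0, nat_lit 5, nat_lit 0, nat_lit 4, nat_lit 1, nat_lit 5, nat_lit 1, nat_lit 5, nat_lit 4, nat_lit 5]))
 (TT.l (Ty.relL (nat_lit 3) [nat_lit 4, nat_lit 3, nat_lit 4, nat_lit 3, nat_lit 4])))
 (TT.n (TT.l (Ty.relL (nat_lit 7) [nat_lit 5, nat_lit 7, nat_lit 5]))
 (TT.l (Ty.srel [nat_lit 4, nat_lit 5, nat_lit 4, nat_lit 5, nat_lit 4, nat_lit 5, nat_lit 4, nat_lit 2, nat_lit 7, nat_lit 5])))))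
 (TT.n (TT.n (TT.n (TT.l (Ty.srel [nat_lit 3, nat_lit 4, nat_lit 0, nat_lit 4, nat_lit 0, nat_lit 3, nat_lit 4, nat_lit 0, nat_lit 4, nat_lit 3, nat_lit 0]))
 (TT.l (Ty.srel [nat_lit 4, nat_lit 6, nat_lit 4, nat_lit 6])))
 (TT.n (TT.l (Ty.srel [nat_lit 1, nat_lit 2, nat_lit 7, nat_lit 1]))
 (TT.l (Ty.relL (nat_lit 5) [nat_lit 4, nat_lit 5, nat_lit 4, nat_lit 5, nat_lit 4, nat_lit 5, nat_lit 7, nat_lit 2, nat_lit 4]))))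
 (TT.n (TT.n (TT.l (Ty.relL (nat_lit 6) [nat_lit 5, nat_lit 0, nat_lit 5, nat_lit 6, nat_lit 0, nat_lit 6, nat_lit 5, nat_lit 0, nat_lit 5, nat_lit 0]))
 (TT.l (Ty.relL (nat_lit 7) [nat_lit 6, nat_lit 7, nat_lit 6, nat_lit 7, nat_lit 6])))
 (TT.n (TT.l (Ty.srel [nat_lit 4, nat_lit 0, nat_lit 4, nat_lit 0, nat_lit 3, nat_lit 4, nat_lit 0, nat_lit 4, nat_lit 3, nat_lit 0, nat_lit 3]))
 (TT.l (Ty.relL (nat_lit 5) [nat_lit 0, nat_lit 3, nat_lit 4, nat_lit 5, nat_lit 0, nat_lit 3, nat_lit 4, nat_lit 5, nat_lit 0, nat_lit 3, nat_lit 4, nat_lit 5, nat_lit 0, nat_lit 3, nat_lit 4, nat_lit 5, nat_lit 0, nat_lit 3, nat_lit 4])))))))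
 (TT.n (TT.n (TT.n (TT.n (TT.n (TT.l (Ty.relL (nat_lit 1) [nat_lit 3, nat_lit 4, nat_lit 1, nat_lit 4, nat_lit 3, nat_lit 1, nat_lit 4, nat_lit 1, nat_lit 4, nat_lit 3]))
 (TT.l (Ty.relL (nat_lit 6) [nat_lit 5, nat_lit 1, nat_lit 5, nat_lit 6, nat_lit 1, nat_lit 5, nat_lit 1, nat_lit 5, nat_lit 6, nat_lit 1])))
 (TT.n (TT.l (Ty.srel [nat_lit 2, nat_lit 7, nat_lit 1, nat_lit 1]))
 (TT.l (Ty.relL (nat_lit 4) [nat_lit 5, nat_lit 4, nat_lit 5, nat_lit 4, nat_lit 5, nat_lit 4, nat_lit 2, nat_lit 7, nat_lit 5]))))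
 (TT.n (TT.n (TT.l (Ty.srel [nat_lit 5, nat_lit 6, nat_lit 1, nat_lit 6, nat_lit 5, nat_lit 1, nat_lit 5, nat_lit 6, nat_lit 1, nat_lit 5, nat_lit 1]))
 (TT.l (Ty.srel [nat_lit 2, nat_lit 4, nat_lit 2, nat_lit 4])))
 (TT.n (TT.l (Ty.relL (nat_lit 3) [nat_lit 5, nat_lit 3, nat_lit 5]))
 (TT.l (Ty.srel [nat_lit 3, nat_lit 1, nat_lit 5, nat_lit 4, nat_lit 3, nat_lit 1, nat_lit 5, nat_lit 4, nat_lit 3, nat_lit 1, nat_lit 5, nat_lit 4, nat_lit 3, nat_lit 1, nat_lit 5, nat_lit 4, nat_lit 3, nat_lit 1, nat_lit 5, nat_lit 4])))))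
 (TT.n (TT.n (TT.n (TT.l (Ty.srel [nat_lit 7, nat_lit 3, nat_lit 7, nat_lit 3]))
 (TT.l (Ty.srel [nat_lit 1, nat_lit 5, nat_lit 4, nat_lit 5, nat_lit 0, nat_lit 5, nat_lit 0, nat_lit 4, nat_lit 1, nat_lit 5])))
 (TT.n (TT.l (Ty.srel [nat_lit 4, nat_lit 7, nat_lit 4, nat_lit 7]))
 (TT.l (Ty.relL (nat_lit 3) [nat_lit 4, nat_lit 5, nat_lit 0, nat_lit 3, nat_lit 4, nat_lit 5, nat_lit 0, nat_lit 3, nat_lit 4, nat_lit 5, nat_lit 0, nat_lit 3, nat_lit 4, nat_lit 5, nat_lit 0, nat_lit 3, nat_lit 4, nat_lit 5, nat_lit 0]))))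
 (TT.n (TT.n (TT.l (Ty.relL (nat_lit 5) [nat_lit 2, nat_lit 5, nat_lit 2]))
 (TT.l (Ty.relL (nat_lit 0) [nat_lit 3, nat_lit 4, nat_lit 5, nat_lit 0, nat_lit 3, nat_lit 4, nat_lit 5, nat_lit 0, nat_lit 3, nat_lit 4, nat_lit 5, nat_lit 0, nat_lit 3, nat_lit 4, nat_lit 5, nat_lit 0, nat_lit 3, nat_lit 4, nat_lit 5])))
 (TT.n (TT.l (Ty.srel [nat_lit 5, nat_lit 0, nat_lit 5, nat_lit 0, nat_lit 4, nat_lit 1, nat_lit 5, nat_lit 1, nat_lit 5, nat_lit 4]))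
 (TT.l (Ty.srel [nat_lit 5, nat_lit 4, nat_lit 5, nat_lit 4, nat_lit 5, nat_lit 7, nat_lit 2, nat_lit 4, nat_lit 5, nat_lit 4]))))))
 (TT.n (TT.n (TT.n (TT.n (TT.l (Ty.relL (nat_lit 2) [nat_lit 3, nat_lit 2, nat_lit 3, nat_lit 2, nat_lit 3]))
 (TT.l (Ty.srel [nat_lit 5, nat_lit 1, nat_lit 5, nat_lit 6, nat_lit 1, nat_lit 6, nat_lit 5, nat_lit 1, nat_lit 5, nat_lit 6, nat_lit 1])))
 (TT.n (TT.l (Ty.relL (nat_lit 0) [nat_lit 7, nat_lit 2, nat_lit 0]))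
 (TT.l (Ty.srel [nat_lit 5, nat_lit 4, nat_lit 0, nat_lit 4, nat_lit 0, nat_lit 5, nat_lit 1, nat_lit 4, nat_lit 1, nat_lit 4]))))
 (TT.n (TT.n (TT.l (Ty.relL (nat_lit 0) [nat_lit 0, nat_lit 7, nat_lit 2]))
 (TT.l (Ty.srel [nat_lit 1, nat_lit 5, nat_lit 1, nat_lit 5, nat_lit 6, nat_lit 1, nat_lit 6, nat_lit 5, nat_lit 1, nat_lit 5, nat_lit 6])))
 (TT.n (TT.l (Ty.relL (nat_lit 3) [nat_lit 1, nat_lit 4, nat_lit 1, nat_lit 4, nat_lit 3, nat_lit 1, nat_lit 3, nat_lit 4, nat_lit 1, nat_lit 4]))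
 (TT.l (Ty.relL (nat_lit 4) [nat_lit 5, nat_lit 4, nat_lit 5, nat_lit 7, nat_lit 2, nat_lit 4, nat_lit 5, nat_lit 4, nat_lit 5])))))
 (TT.n (TT.n (TT.n (TT.l (Ty.srel [nat_lit 4, nat_lit 3, nat_lit 1, nat_lit 4, nat_lit 1, nat_lit 4, nat_lit 3, nat_lit 1, nat_lit 3, nat_lit 4, nat_lit 1]))
 (TT.l (Ty.srel [nat_lit 0, nat_lit 4, nat_lit 1, nat_lit 5, nat_lit 1, nat_lit 5, nat_lit 4, nat_lit 5, nat_lit 0, nat_lit 5])))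
 (TT.n (TT.l (Ty.srel [nat_lit 0, nat_lit 5, nat_lit 6, nat_lit 0, nat_lit 6, nat_lit 5, nat_lit 0, nat_lit 5, nat_lit 0, nat_lit 6, nat_lit 5]))
 (TT.l (Ty.srel [nat_lit 5, nat_lit 4, nat_lit 5, nat_lit 4, nat_lit 5, nat_lit 4, nat_lit 5, nat_lit 7, nat_lit 2, nat_lit 4]))))
 (TT.n (TT.n (TT.l (Ty.relL (nat_lit 7) [nat_lit 2, nat_lit 0, nat_lit 0]))
 (TT.l (Ty.relL (nat_lit 4) [nat_lit 5, nat_lit 4, nat_lit 5, nat_lit 4, nat_lit 5, nat_lit 4, nat_lit 5, nat_lit 7, nat_lit 2])))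
 (TT.n (TT.l (Ty.relL (nat_lit 1) [nat_lit 4, nat_lit 3, nat_lit 1, nat_lit 4, nat_lit 1, nat_lit 4, nat_lit 3, nat_lit 1, nat_lit 3, nat_lit 4]))
 (TT.l (Ty.relL (nat_lit 4) [nat_lit 5, nat_lit 4, nat_lit 5, nat_lit 4, nat_lit 5, nat_lit 4, nat_lit 5, nat_lit 4, nat_lit 5, nat_lit 4, nat_lit 5, nat_lit 4, nat_lit 5, nat_lit 4, nat_lit 5]))))))))
 (TT.n (TT.n (TT.n (TT.n (TT.n (TT.n (TT.l (Ty.srel [nat_lit 1, nat_lit 4, nat_lit 3, nat_lit 1, nat_lit 3, nat_lit 4, nat_lit 1, nat_lit 4, nat_lit 3, nat_lit 1, nat_lit 4]))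
 (TT.l (Ty.srel [nat_lit 1, nat_lit 3, nat_lit 4, nat_lit 1, nat_lit 4, nat_lit 3, nat_lit 1, nat_lit 4, nat_lit 1, nat_lit 4, nat_lit 3])))
 (TT.n (TT.l (Ty.relL (nat_lit 0) [nat_lit 3, nat_lit 4, nat_lit 0, nat_lit 4, nat_lit 3, nat_lit 0, nat_lit 3, nat_lit 4, nat_lit 0, nat_lit 4]))
 (TT.l (Ty.relL (nat_lit 5) [nat_lit 6, nat_lit 5, nat_lit 6, nat_lit 5, nat_lit 6]))))
 (TT.n (TT.n (TT.l (Ty.relL (nat_lit 2) [nat_lit 4, nat_lit 2, nat_lit 4]))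
 (TT.l (Ty.relL (nat_lit 1) [nat_lit 4, nat_lit 1, nat_lit 4, nat_lit 3, nat_lit 1, nat_lit 3, nat_lit 4, nat_lit 1, nat_lit 4, nat_lit 3])))
 (TT.n (TT.l (Ty.srel [nat_lit 4, nat_lit 1, nat_lit 4, nat_lit 3, nat_lit 1, nat_lit 3, nat_lit 4, nat_lit 1, nat_lit 4, nat_lit 3, nat_lit 1]))
 (TT.l (Ty.srel [nat_lit 5, nat_lit 4, nat_lit 5, nat_lit 4, nat_lit 2, nat_lit 7, nat_lit 5, nat_lit 4, nat_lit 5, nat_lit 4])))))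
 (TT.n (TT.n (TT.n (TT.l (Ty.relL (nat_lit 0) [nat_lit 4, nat_lit 1, nat_lit 5, nat_lit 1, nat_lit 5, nat_lit 4, nat_lit 5, nat_lit 0, nat_lit 5]))
 (TT.l (Ty.relL (nat_lit 7) [nat_lit 1, nat_lit 1, nat_lit 2])))
 (TT.n (TT.l (Ty.relL (nat_lit 4) [nat_lit 6, nat_lit 4, nat_lit 6]))
 (TT.l (Ty.srel [nat_lit 4, nat_lit 5, nat_lit 7, nat_lit 2, nat_lit 4, nat_lit 5, nat_lit 4, nat_lit 5, nat_lit 4, nat_lit 5]))))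
 (TT.n (TT.n (TT.l (Ty.srel [nat_lit 5, nat_lit 3, nat_lit 5, nat_lit 3]))
 (TT.l (Ty.relL (nat_lit 5) [nat_lit 0, nat_lit 5, nat_lit 0, nat_lit 4, nat_lit 1, nat_lit 5, nat_lit 1, nat_lit 5, nat_lit 4])))
 (TT.n (TT.l (Ty.srel [nat_lit 5, nat_lit 6, nat_lit 1, nat_lit 5, nat_lit 1, nat_lit 5, nat_lit 6, nat_lit 1, nat_lit 6, nat_lit 5, nat_lit 1]))
 (TT.l (Ty.srel [nat_lit 5, nat_lit 4, nat_lit 2, nat_lit 7, nat_lit 5, nat_lit 4, nat_lit 5, nat_lit 4, nat_lit 5, nat_lit 4]))))))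
 (TT.n (TT.n (TT.n (TT.n (TT.l (Ty.srel [nat_lit 2, nat_lit 5, nat_lit 2, nat_lit 5]))
 (TT.l (Ty.srel [nat_lit 3, nat_lit 4, nat_lit 3, nat_lit 4, nat_lit 3, nat_lit 4])))
 (TT.n (TT.l (Ty.relL (nat_lit 0) [nat_lit 5, nat_lit 1, nat_lit 4, nat_lit 1, nat_lit 4, nat_lit 5, nat_lit 4, nat_lit 0, nat_lit 4]))
 (TT.l (Ty.relL (nat_lit 4) [nat_lit 0, nat_lit 4, nat_lit 3, nat_lit 0, nat_lit 3, nat_lit 4, nat_lit 0, nat_lit 4, nat_lit 0, nat_lit 3]))))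
 (TT.n (TT.n (TT.l (Ty.relL (nat_lit 5) [nat_lit 0, nat_lit 4, nat_lit 1, nat_lit 5, nat_lit 1, nat_lit 5, nat_lit 4, nat_lit 5, nat_lit 0]))
 (TT.l (Ty.relL (nat_lit 5) [nat_lit 6, nat_lit 0, nat_lit 6, nat_lit 5, nat_lit 0, nat_lit 5, nat_lit 0, nat_lit 6, nat_lit 5, nat_lit 0])))
 (TT.n (TT.l (Ty.relL (nat_lit 2) [nat_lit 5, nat_lit 2, nat_lit 5]))
 (TT.l (Ty.relL (nat_lit 2) [nat_lit 4, nat_lit 5, nat_lit 4, nat_lit 5, nat_lit 4, nat_lit 5, nat_lit 4, nat_lit 5, nat_lit 7])))))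
 (TT.n (TT.n (TT.n (TT.l (Ty.srel [nat_lit 6, nat_lit 1, nat_lit 5, nat_lit 1, nat_lit 5, nat_lit 6, nat_lit 1, nat_lit 6, nat_lit 5, nat_lit 1, nat_lit 5]))
 (TT.l (Ty.srel [nat_lit 5, nat_lit 6, nat_lit 0, nat_lit 6, nat_lit 5, nat_lit 0, nat_lit 5, nat_lit 0, nat_lit 6, nat_lit 5, nat_lit 0])))
 (TT.n (TT.l (Ty.relL (nat_lit 4) [nat_lit 2, nat_lit 4, nat_lit 2]))
 (TT.l (Ty.relL (nat_lit 4) [nat_lit 2, nat_lit 7, nat_lit 5, nat_lit 4, nat_lit 5, nat_lit 4, nat_lit 5, nat_lit 4, nat_lit 5]))))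
 (TT.n (TT.n (TT.l (Ty.srel [nat_lit 4, nat_lit 3, nat_lit 0, nat_lit 3, nat_lit 4, nat_lit 0, nat_lit 4, nat_lit 0, nat_lit 3, nat_lit 4, nat_lit 0]))
 (TT.l (Ty.relL (nat_lit 4) [nat_lit 1, nat_lit 4, nat_lit 5, nat_lit 4, nat_lit 0, nat_lit 4, nat_lit 0, nat_lit 5, nat_lit 1])))
 (TT.n (TT.l (Ty.srel [nat_lit 5, nat_lit 0, nat_lit 6, nat_lit 5, nat_lit 0, nat_lit 5, nat_lit 6, nat_lit 0, nat_lit 6, nat_lit 5, nat_lit 0]))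
 (TT.l (Ty.relL (nat_lit 4) [nat_lit 5, nat_lit 4, nat_lit 5, nat_lit 4, nat_lit 2, nat_lit 7, nat_lit 5, nat_lit 4, nat_lit 5])))))))
 (TT.n (TT.n (TT.n (TT.n (TT.n (TT.l (Ty.srel [nat_lit 7, nat_lit 6, nat_lit 7, nat_lit 6, nat_lit 7, nat_lit 6]))
 (TT.l (Ty.srel [nat_lit 4, nat_lit 3, nat_lit 4, nat_lit 3, nat_lit 4, nat_lit 3])))
 (TT.n (TT.l (Ty.relL (nat_lit 7) [nat_lit 3, nat_lit 7, nat_lit 3]))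
 (TT.l (Ty.srel [nat_lit 2, nat_lit 0, nat_lit 0, nat_lit 7]))))
 (TT.n (TT.n (TT.l (Ty.srel [nat_lit 6, nat_lit 2, nat_lit 6, nat_lit 2]))
 (TT.l (Ty.srel [nat_lit 0, nat_lit 6, nat_lit 5, nat_lit 0, nat_lit 5, nat_lit 6, nat_lit 0, nat_lit 6, nat_lit 5, nat_lit 0, nat_lit 5])))
 (TT.n (TT.l (Ty.srel [nat_lit 1, nat_lit 5, nat_lit 6, nat_lit 1, nat_lit 6, nat_lit 5, nat_lit 1, nat_lit 5, nat_lit 6, nat_lit 1, nat_lit 5]))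
 (TT.l (Ty.srel [nat_lit 5, nat_lit 4, nat_lit 5, nat_lit 7, nat_lit 2, nat_lit 4, nat_lit 5, nat_lit 4, nat_lit 5, nat_lit 4])))))
 (TT.n (TT.n (TT.n (TT.l (Ty.srel [nat_lit 6, nat_lit 3, nat_lit 6, nat_lit 3]))
 (TT.l (Ty.relL (nat_lit 6) [nat_lit 7, nat_lit 6, nat_lit 7, nat_lit 6, nat_lit 7])))
 (TT.n (TT.l (Ty.srel [nat_lit 4, nat_lit 0, nat_lit 5, nat_lit 1, nat_lit 4, nat_lit 1, nat_lit 4, nat_lit 5, nat_lit 4, nat_lit 0]))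
 (TT.l (Ty.srel [nat_lit 7, nat_lit 2, nat_lit 4, nat_lit 5, nat_lit 4, nat_lit 5, nat_lit 4, nat_lit 5, nat_lit 4, nat_lit 5]))))
 (TT.n (TT.n (TT.l (Ty.relL (nat_lit 6) [nat_lit 2, nat_lit 6, nat_lit 2]))
 (TT.l (Ty.srel [nat_lit 1, nat_lit 5, nat_lit 4, nat_lit 3, nat_lit 1, nat_lit 5, nat_lit 4, nat_lit 3, nat_lit 1, nat_lit 5, nat_lit 4, nat_lit 3, nat_lit 1, nat_lit 5, nat_lit 4, nat_lit 3, nat_lit 1, nat_lit 5, nat_lit 4, nat_lit 3])))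
 (TT.n (TT.l (Ty.srel [nat_lit 2, nat_lit 7, nat_lit 2, nat_lit 7]))
 (TT.l (Ty.relL (nat_lit 5) [nat_lit 4, nat_lit 5, nat_lit 7, nat_lit 2, nat_lit 4, nat_lit 5, nat_lit 4, nat_lit 5, nat_lit 4]))))))
 (TT.n (TT.n (TT.n (TT.n (TT.l (Ty.relL (nat_lit 3) [nat_lit 2, nat_lit 3, nat_lit 2, nat_lit 3, nat_lit 2]))
 (TT.l (Ty.relL (nat_lit 4) [nat_lit 3, nat_lit 1, nat_lit 4, nat_lit 1, nat_lit 4, nat_lit 3, nat_lit 1, nat_lit 3, nat_lit 4, nat_lit 1])))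
 (TT.n (TT.l (Ty.srel [nat_lit 4, nat_lit 3, nat_lit 1, nat_lit 3, nat_lit 4, nat_lit 1, nat_lit 4, nat_lit 3, nat_lit 1, nat_lit 4, nat_lit 1]))
 (TT.l (Ty.srel [nat_lit 5, nat_lit 0, nat_lit 5, nat_lit 0, nat_lit 6, nat_lit 5, nat_lit 0, nat_lit 5, nat_lit 6, nat_lit 0, nat_lit 6]))))
 (TT.n (TT.n (TT.l (Ty.relL (nat_lit 4) [nat_lit 1, nat_lit 5, nat_lit 1, nat_lit 5, nat_lit 4, nat_lit 5, nat_lit 0, nat_lit 5, nat_lit 0]))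
 (TT.l (Ty.srel [nat_lit 0, nat_lit 4, nat_lit 0, nat_lit 5, nat_lit 1, nat_lit 4, nat_lit 1, nat_lit 4, nat_lit 5, nat_lit 4])))
 (TT.n (TT.l (Ty.relL (nat_lit 0) [nat_lit 5, nat_lit 0, nat_lit 6, nat_lit 5, nat_lit 0, nat_lit 5, nat_lit 6, nat_lit 0, nat_lit 6, nat_lit 5]))
 (TT.l (Ty.relL (nat_lit 4) [nat_lit 5, nat_lit 0, nat_lit 3, nat_lit 4, nat_lit 5, nat_lit 0, nat_lit 3, nat_lit 4, nat_lit 5, nat_lit 0, nat_lit 3, nat_lit 4, nat_lit 5, nat_lit 0, nat_lit 3, nat_lit 4, nat_lit 5, nat_lit 0, nat_lit 3])))))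
 (TT.n (TT.n (TT.n (TT.l (Ty.relL (nat_lit 4) [nat_lit 1, nat_lit 4, nat_lit 3, nat_lit 1, nat_lit 4, nat_lit 1, nat_lit 4, nat_lit 3, nat_lit 1, nat_lit 3]))
 (TT.l (Ty.relL (nat_lit 4) [nat_lit 0, nat_lit 4, nat_lit 0, nat_lit 3, nat_lit 4, nat_lit 0, nat_lit 4, nat_lit 3, nat_lit 0, nat_lit 3])))
 (TT.n (TT.l (Ty.relL (nat_lit 3) [nat_lit 4, nat_lit 1, nat_lit 4, nat_lit 3, nat_lit 1, nat_lit 4, nat_lit 1, nat_lit 4, nat_lit 3, nat_lit 1]))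
 (TT.l (Ty.relL (nat_lit 5) [nat_lit 4, nat_lit 5, nat_lit 4, nat_lit 5, nat_lit 4, nat_lit 5, nat_lit 4, nat_lit 2, nat_lit 7]))))
 (TT.n (TT.n (TT.l (Ty.relL (nat_lit 7) [nat_lit 4, nat_lit 7, nat_lit 4]))
 (TT.l (Ty.srel [nat_lit 0, nat_lit 5, nat_lit 0, nat_lit 6, nat_lit 5, nat_lit 0, nat_lit 5, nat_lit 6, nat_lit 0, nat_lit 6, nat_lit 5])))
 (TT.n (TT.l (Ty.srel [nat_lit 3, nat_lit 2, nat_lit 3, nat_lit 2, nat_lit 3, nat_lit 2]))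
 (TT.l (Ty.relL (nat_lit 1) [nat_lit 5, nat_lit 4, nat_lit 3, nat_lit 1, nat_lit 5, nat_lit 4, nat_lit 3, nat_lit 1, nat_lit 5, nat_lit 4, nat_lit 3, nat_lit 1, nat_lit 5, nat_lit 4, nat_lit 3, nat_lit 1, nat_lit 5, nat_lit 4, nat_lit 3]))))))))))
noncomputable def C : Cert where
  tabs := [tab0, tab1, tab2, tab3, tab4, tab5, tab6, tab7, tab8, tab9, tab10, tab11, tab12, tab13, tab14, tab15, tab16, tab17, tab18]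
  tts := [ty0, ty1, ty2, ty3, ty4, ty5, ty6, ty7, ty8]
  k := nat_lit 8
  base := nat_lit 256
  mJ := nat_lit 261888
  mR := nat_lit 255
  W := nat_lit 40
  mA := nat_lit 2147483647
  mI := nat_lit 262143
  S := nat_lit 31
  mC := nat_lit 511
  nc := nat_lit 8
  lo := nat_lit 256
  live := nat_lit 123016
  hi1 := nat_lit 196115
  AW := nat_lit 24
  mAW := nat_lit 16777215
def il : List ℕ := [1, 0, 2, 3, 4, 5, 6, 7]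
def rels : List (List ℕ) := [[2, 3, 2, 3, 2, 3],
  [2, 4, 2, 4],
  [2, 5, 2, 5],
  [2, 6, 2, 6],
  [2, 7, 2, 7],
  [3, 4, 3, 4, 3, 4],
  [3, 5, 3, 5],
  [3, 6, 3, 6],
  [3, 7, 3, 7],
  [4, 5, 4, 5, 4, 5, 4, 5, 4, 5, 4, 5, 4, 5, 4, 5],
  [4, 6, 4, 6],
  [4, 7, 4, 7],
  [5, 6, 5, 6, 5, 6],
  [5, 7, 5, 7],
  [6, 7, 6, 7, 6, 7],
  [2, 7, 1, 1],
  [2, 7, 5, 4, 5, 4, 5, 4, 5, 4],
  [4, 1, 5, 1, 5, 4, 5, 0, 5, 0],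
  [5, 1, 4, 1, 4, 5, 4, 0, 4, 0],
  [3, 4, 5, 0, 3, 4, 5, 0, 3, 4, 5, 0, 3, 4, 5, 0, 3, 4, 5, 0],
  [0, 3, 4, 0, 4, 3, 0, 3, 4, 0, 4],
  [0, 6, 5, 0, 5, 6, 0, 6, 5, 0, 5]]
def subs : List (List ℕ) := [[2],
  [3],
  [4],
  [5],
  [6],
  [7]]
theorem valid : C.valid il rels subs = true := by decide +kernel
end CfH6.ONT1
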